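import Mathlib

/-!
# Doubly transitive groups with a regular cyclic subgroup and metacyclic point stabiliser: set-up

`Setting G Ω`: a faithful doubly transitive action, a cyclic subgroup `A` regular on the points, a
cyclic normal subgroup `F` of the stabiliser of `a` regular on the other points, and cyclic two
point stabilisers.
-/

set_option autoImplicit false

namespace CfsgLib.Perm.CycStab

open Subgroup MulAction

/-- Subgroups of the same order of a finite cyclic group coincide. -/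
theorem eq_of_card_eq_cyclic {α : Type*} [Group α] [Finite α] [IsCyclic α] {H K : Subgroup α}
    (h : Nat.card H = Nat.card K) : H = K := by
  classical
  haveI := Fintype.ofFinite α
  have key : ∀ L : Subgroup α, (L : Set α) = {x | x ^ Nat.card L = 1} := by
    intro L
    refine Set.eq_of_subset_of_ncard_le (fun x hx => ?_) ?_ (Set.toFinite _)
    · have := pow_card_eq_one' (x := (⟨x, hx⟩ : L))
      exact congrArg Subtype.val this
    · rw [← Nat.card_coe_set_eq (L : Set α), Set.ncard_eq_toFinset_card']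
      refine le_trans ?_ (le_of_eq rfl)
      simpa using IsCyclic.card_pow_eq_one_le (α := α) (Nat.card_pos (α := L))
  refine SetLike.coe_injective ?_
  rw [key H, key K, h]

/-- Subgroups of the same order inside a cyclic subgroup coincide. -/
theorem eq_of_card_eq_le {G : Type*} [Group G] [Finite G] {D H K : Subgroup G} (hD : IsCyclic ↥D)
    (hH : H ≤ D) (hK : K ≤ D) (h : Nat.card H = Nat.card K) : H = K := by
  have := eq_of_card_eq_cyclic (α := ↥D) (H := H.subgroupOf D) (K := K.subgroupOf D)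
    (by rw [Nat.card_congr (subgroupOfEquivOfLe hH).toEquiv,
      Nat.card_congr (subgroupOfEquivOfLe hK).toEquiv, h])
  have h' := subgroupOf_inj.1 this
  rwa [inf_eq_left.2 hH, inf_eq_left.2 hK] at h'

variable (G Ω : Type*) [Group G] [MulAction G Ω]

/-- The two point stabiliser. -/
def pt2 (x y : Ω) : Subgroup G := stabilizer G x ⊓ stabilizer G y

/-- A doubly transitive group with regular cyclic subgroup and metacyclic stabiliser. -/
structure Setting where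
  faithful : ∀ g : G, (∀ x : Ω, g • x = x) → g = 1
  two : ∀ {x y x' y' : Ω}, x ≠ y → x' ≠ y' → ∃ g : G, g • x = x' ∧ g • y = y'
  a : Ω
  A : Subgroup G
  A_cyc : IsCyclic ↥A
  A_free : ∀ g ∈ A, ∀ x : Ω, g • x = x → g = 1
  A_trans : ∀ x : Ω, ∃ g ∈ A, g • a = x
  F : Subgroup G
  F_le : F ≤ stabilizer G a
  F_conj : ∀ h ∈ stabilizer G a, ∀ f ∈ F, h * f * h⁻¹ ∈ F
  F_cyc : IsCyclic ↥F
  F_free : ∀ f ∈ F, ∀ x : Ω, x ≠ a → f • x = x → f = 1
  F_trans : ∀ {x y : Ω}, x ≠ a → y ≠ a → ∃ f ∈ F, f • x = y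
  D_cyc : ∀ {x y : Ω}, x ≠ y → IsCyclic ↥(pt2 G Ω x y)

namespace Setting

variable {G Ω} (S : Setting G Ω)

theorem mem_pt2 {x y : Ω} {g : G} : g ∈ pt2 G Ω x y ↔ g • x = x ∧ g • y = y := by
  simp [pt2, mem_inf, mem_stabilizer_iff]

theorem conj_pt2 (g : G) (x y : Ω) :
    (pt2 G Ω x y).map (MulAut.conj g).toMonoidHom = pt2 G Ω (g • x) (g • y) := by
  ext h
  rw [mem_map_equiv]
  simp only [MulAut.conj_symm_apply, mem_pt2, mul_smul, inv_smul_eq_iff]

include S in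
theorem pt2_comm {x y : Ω} (hxy : x ≠ y) {d e : G} (hd : d ∈ pt2 G Ω x y) (he : e ∈ pt2 G Ω x y) :
    d * e = e * d := by
  haveI := S.D_cyc hxy
  letI := IsCyclic.commGroup (α := ↥(pt2 G Ω x y))
  exact congrArg Subtype.val (mul_comm (⟨d, hd⟩ : ↥(pt2 G Ω x y)) ⟨e, he⟩)

theorem F_smul_a {f : G} (hf : f ∈ S.F) : f • S.a = S.a := S.F_le hf

theorem F_smul_ne {f : G} (hf : f ∈ S.F) {b : Ω} (hb : b ≠ S.a) : f • b ≠ S.a :=
  fun h => hb (smul_left_cancel f (h.trans (S.F_smul_a hf).symm))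

theorem F_unique {f f' : G} (hf : f ∈ S.F) (hf' : f' ∈ S.F) {b : Ω} (hb : b ≠ S.a)
    (h : f • b = f' • b) : f = f' :=
  (inv_mul_eq_one.1 (S.F_free _ (mul_mem (inv_mem hf) hf') b hb
    (by rw [mul_smul, ← h, inv_smul_smul])))

theorem A_unique {g g' : G} (hg : g ∈ S.A) (hg' : g' ∈ S.A) {x : Ω}
    (h : g • x = g' • x) : g = g' :=
  (inv_mul_eq_one.1 (S.A_free _ (mul_mem (inv_mem hg) hg') x (by rw [mul_smul, ← h, inv_smul_smul])))

/-- `F ≃ Ω \ {a}`. -/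
noncomputable def equivF {b : Ω} (hb : b ≠ S.a) : ↥S.F ≃ {x : Ω // x ≠ S.a} :=
  Equiv.ofBijective (fun f => ⟨(f : G) • b, S.F_smul_ne f.2 hb⟩)
    ⟨fun f f' h => Subtype.ext (S.F_unique f.2 f'.2 hb (congrArg Subtype.val h)),
     fun x => by
      obtain ⟨f, hf, hfx⟩ := S.F_trans hb x.2
      exact ⟨⟨f, hf⟩, Subtype.ext hfx⟩⟩

/-- `A ≃ Ω`. -/
noncomputable def equivA : ↥S.A ≃ Ω :=
  Equiv.ofBijective (fun g => (g : G) • S.a)
    ⟨fun g g' h => Subtype.ext (S.A_unique g.2 g'.2 h),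
     fun x => by
      obtain ⟨g, hg, hgx⟩ := S.A_trans x
      exact ⟨⟨g, hg⟩, hgx⟩⟩

theorem card_A : Nat.card S.A = Nat.card Ω := Nat.card_congr S.equivA

theorem card_F [Finite Ω] {b : Ω} (hb : b ≠ S.a) : Nat.card S.F + 1 = Nat.card Ω := by
  classical
  haveI := Fintype.ofFinite Ω
  rw [Nat.card_congr (S.equivF hb), Nat.card_eq_fintype_card, Nat.card_eq_fintype_card,
    Fintype.card_subtype_compl, Fintype.card_subtype_eq]
  have : 0 < Fintype.card Ω := Fintype.card_pos_iff.2 ⟨b⟩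
  omega

theorem exists_F_mul {b : Ω} (hb : b ≠ S.a) {h : G} (hh : h • S.a = S.a) :
    ∃ f ∈ S.F, ∃ d ∈ pt2 G Ω S.a b, h = f * d := by
  have hne : h • b ≠ S.a := fun e => hb (smul_left_cancel h (e.trans hh.symm))
  obtain ⟨f, hf, hfb⟩ := S.F_trans hb hne
  refine ⟨f, hf, f⁻¹ * h, mem_pt2.2 ⟨?_, ?_⟩, by group⟩
  · rw [mul_smul, hh, inv_smul_eq_iff, S.F_smul_a hf]
  · rw [mul_smul, inv_smul_eq_iff, hfb]

theorem F_inf_pt2 {b : Ω} (hb : b ≠ S.a) : S.F ⊓ pt2 G Ω S.a b = ⊥ := by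
  rw [Subgroup.eq_bot_iff_forall]
  rintro x ⟨hx, hxd⟩
  exact S.F_free x hx b hb (mem_pt2.1 hxd).2

theorem F_normalised {d f : G} (hd : d • S.a = S.a) (hf : f ∈ S.F) : d * f * d⁻¹ ∈ S.F :=
  S.F_conj d hd f hf

/-- `d` fixes `f • b` iff it centralises `f`. -/
theorem fix_iff {b : Ω} (hb : b ≠ S.a) {d f : G} (hd : d ∈ pt2 G Ω S.a b) (hf : f ∈ S.F) :
    d • f • b = f • b ↔ d * f = f * d := by
  obtain ⟨hda, hdb⟩ := mem_pt2.1 hd
  constructor
  · intro h
    have h2 : (d * f * d⁻¹) • b = f • b := by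
      rw [mul_smul, mul_smul, inv_smul_eq_iff.2 hdb.symm, h]
    exact mul_inv_eq_iff_eq_mul.1 (S.F_unique (S.F_normalised hda hf) hf hb h2)
  · intro h
    rw [← mul_smul, h, mul_smul, hdb]

theorem eq_one_of_centralises_F {b : Ω} (hb : b ≠ S.a) {d : G} (hd : d ∈ pt2 G Ω S.a b)
    (h : ∀ f ∈ S.F, d * f = f * d) : d = 1 := by
  refine S.faithful d fun x => ?_
  by_cases hx : x = S.a
  · rw [hx]; exact (mem_pt2.1 hd).1
  · obtain ⟨f, hf, rfl⟩ := S.F_trans hb hx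
    exact (S.fix_iff hb hd hf).2 (h f hf)

/-- The part of `F` centralising a subgroup of a two point stabiliser. -/
def centF (E : Subgroup G) : Subgroup G := S.F ⊓ centralizer (E : Set G)

theorem mem_fixed_iff {b : Ω} (hb : b ≠ S.a) {E : Subgroup G} (hE : E ≤ pt2 G Ω S.a b) {x : Ω} :
    x ∈ fixedPoints E Ω ↔ x = S.a ∨ ∃ f ∈ S.centF E, f • b = x := by
  simp only [mem_fixedPoints, Subtype.forall, Subgroup.smul_def]
  constructor
  · intro h
    refine or_iff_not_imp_left.2 fun hx => ?_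
    obtain ⟨f, hf, rfl⟩ := S.F_trans hb hx
    exact ⟨f, ⟨hf, mem_centralizer_iff.2 fun d hd => (S.fix_iff hb (hE hd) hf).1 (h d hd)⟩, rfl⟩
  · rintro (rfl | ⟨f, ⟨hf, hc⟩, rfl⟩) d hd
    · exact (mem_pt2.1 (hE hd)).1
    · exact (S.fix_iff hb (hE hd) hf).2 (mem_centralizer_iff.1 hc d hd)

theorem card_fixed [Finite Ω] {b : Ω} (hb : b ≠ S.a) {E : Subgroup G} (hE : E ≤ pt2 G Ω S.a b) :
    Nat.card ↥(fixedPoints E Ω) = Nat.card (S.centF E) + 1 := by
  classical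
  have hs : fixedPoints E Ω = insert S.a ((fun f : G => f • b) '' (S.centF E : Set G)) := by
    ext x
    rw [S.mem_fixed_iff hb hE]
    simp
  rw [Nat.card_coe_set_eq, hs, Set.ncard_insert_of_notMem ?_, Set.InjOn.ncard_image,
    ← Nat.card_coe_set_eq]
  · rfl
  · exact fun f hf f' hf' e => S.F_unique hf.1 hf'.1 hb e
  · rintro ⟨f, hf, e⟩
    exact S.F_smul_ne hf.1 hb e

include S in
/-- The normaliser of a subgroup `E` of a two point stabiliser is doubly transitive on `Fix E`. -/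
theorem two_on_fixed [Finite G] {x y x' y' : Ω} (hxy : x ≠ y) (hxy' : x' ≠ y') {E : Subgroup G}
    (hE : E ≤ pt2 G Ω x y) (hE' : E ≤ pt2 G Ω x' y') :
    ∃ g ∈ normalizer (E : Set G), g • x = x' ∧ g • y = y' := by
  obtain ⟨g, hgx, hgy⟩ := S.two hxy hxy'
  refine ⟨g, ?_, hgx, hgy⟩
  have hmap : E.map (MulAut.conj g).toMonoidHom ≤ pt2 G Ω x' y' := by
    rw [← hgx, ← hgy, ← conj_pt2]
    exact map_mono hE
  have := eq_of_card_eq_le (S.D_cyc hxy') hmap hE'
    (Nat.card_congr (E.equivMapOfInjective _ (MulAut.conj g).injective).toEquiv).symm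
  rw [mem_normalizer_iff_map_conj_eq]
  exact this

theorem exists_mem_ne_one {K : Subgroup G} (hK : 1 < Nat.card K) : ∃ f ∈ K, f ≠ 1 := by
  by_contra hc
  push Not at hc
  rw [(Subgroup.eq_bot_iff_forall K).2 hc, card_bot] at hK
  omega

/-- An element fixing at least three points pointwise commutes with every swapper. -/
theorem swap_comm [Finite G] [Finite Ω] {b : Ω} (hb : b ≠ S.a) {E : Subgroup G}
    (hE : E ≤ pt2 G Ω S.a b) (h3 : 1 < Nat.card (S.centF E)) {k : G}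
    (hk : ∀ x ∈ fixedPoints E Ω, k • x = x) {w : G} (hwa : w • S.a = b) (hwb : w • b = S.a) :
    w * k = k * w := by
  set Δ := fixedPoints E Ω
  have ha : S.a ∈ Δ := (S.mem_fixed_iff hb hE).2 (Or.inl rfl)
  have hbm : b ∈ Δ := (S.mem_fixed_iff hb hE).2 (Or.inr ⟨1, one_mem _, one_smul _ _⟩)
  -- elements of the normaliser of `E` centralising the pointwise stabiliser of `Δ`
  let P : Subgroup G := ⨅ x ∈ Δ, stabilizer G x
  have hP : ∀ g, g ∈ P ↔ ∀ x ∈ Δ, g • x = x := by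
    intro g; simp [P, Subgroup.mem_iInf, mem_stabilizer_iff]
  have hkP : k ∈ P := (hP k).2 hk
  let M : Subgroup G := centralizer (P : Set G)
  have hΔN : ∀ g ∈ normalizer (E : Set G), ∀ x ∈ Δ, g • x ∈ Δ := by
    intro g hg x hx e
    have he : g⁻¹ * (e : G) * g ∈ E := by
      have := mem_normalizer_iff.1 (inv_mem hg) (e : G)
      simpa using this.1 e.2
    have := hx ⟨_, he⟩
    rw [Subgroup.smul_def] at this ⊢
    rw [mul_smul, mul_smul, inv_smul_eq_iff] at this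
    exact this
  have hMN : ∀ g ∈ normalizer (E : Set G), ∀ m ∈ M, g * m * g⁻¹ ∈ M := by
    intro g hg m hm
    refine mem_centralizer_iff.2 fun p hp => ?_
    have hp' : g⁻¹ * p * g ∈ P := (hP _).2 fun x hx => by
      rw [mul_smul, mul_smul, (hP p).1 hp _ (hΔN g hg x hx), inv_smul_smul]
    have h := mem_centralizer_iff.1 hm _ hp'
    calc p * (g * m * g⁻¹) = g * (g⁻¹ * p * g * m) * g⁻¹ := by group
      _ = g * (m * (g⁻¹ * p * g)) * g⁻¹ := by rw [h]
      _ = g * m * g⁻¹ * p := by group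
  have hPle : ∀ p ∈ P, p ∈ pt2 G Ω S.a b := fun p hp =>
    mem_pt2.2 ⟨(hP p).1 hp _ ha, (hP p).1 hp _ hbm⟩
  have hFM : ∀ f ∈ S.centF E, f ∈ M := fun f hf => mem_centralizer_iff.2 fun p hp =>
    (S.fix_iff hb (hPle p hp) hf.1).1 ((hP p).1 hp _ ((S.mem_fixed_iff hb hE).2 (Or.inr ⟨f, hf, rfl⟩)))
  -- for every `x ∈ Δ`, the stabiliser of `x` in `M` is transitive on the rest of `Δ`
  have htr : ∀ x ∈ Δ, ∀ y ∈ Δ, ∀ y' ∈ Δ, y ≠ x → y' ≠ x → ∃ m ∈ M, m • x = x ∧ m • y = y' := by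
    intro x hx
    obtain ⟨x₀, hx₀, hne⟩ : ∃ x₀ ∈ Δ, x₀ ≠ x := by
      by_cases hax : x = S.a
      · exact ⟨b, hbm, hax ▸ hb⟩
      · exact ⟨S.a, ha, fun e => hax e.symm⟩
    obtain ⟨g, hg, hga, hgb⟩ := S.two_on_fixed hb.symm hne.symm hE (fun e he =>
      mem_pt2.2 ⟨by simpa [Subgroup.smul_def] using hx ⟨e, he⟩,
        by simpa [Subgroup.smul_def] using hx₀ ⟨e, he⟩⟩)
    intro y hy y' hy' hyx hyx'
    have key : ∀ z ∈ Δ, z ≠ x → ∃ f ∈ S.centF E, g • f • b = z := by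
      intro z hz hzx
      rcases (S.mem_fixed_iff hb hE).1 (hΔN _ (inv_mem hg) z hz) with h | ⟨f, hf, h⟩
      · exact absurd (by rw [← hga, ← h, smul_inv_smul]) hzx
      · exact ⟨f, hf, by rw [h, smul_inv_smul]⟩
    obtain ⟨f, hf, hfy⟩ := key y hy hyx
    obtain ⟨f', hf', hfy'⟩ := key y' hy' hyx'
    refine ⟨g * (f' * f⁻¹) * g⁻¹, hMN g hg _ (hFM _ (mul_mem hf' (inv_mem hf))), ?_, ?_⟩
    · rw [← hga]
      simp only [mul_smul, inv_smul_smul]
      rw [inv_smul_eq_iff.2 (S.F_smul_a hf.1).symm, S.F_smul_a hf'.1]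
    · rw [← hfy]
      simp only [mul_smul, inv_smul_smul]
      rw [hfy']
  obtain ⟨f, hf, hf1⟩ := exists_mem_ne_one h3
  have hc : f • b ∈ Δ := (S.mem_fixed_iff hb hE).2 (Or.inr ⟨f, hf, rfl⟩)
  have hcb : f • b ≠ b := fun e => hf1 (S.F_free f hf.1 b hb e)
  have hca : f • b ≠ S.a := S.F_smul_ne hf.1 hb
  -- `m₀ : a ↦ b`
  obtain ⟨m₁, hm₁, hm₁c, hm₁a⟩ := htr _ hc _ ha _ hbm hca.symm hcb.symm
  have he : m₁ • b ∈ Δ := by
    intro e
    have hee : (e : G) ∈ P := (hP _).2 fun x hx => hx e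
    rw [Subgroup.smul_def, ← mul_smul, mem_centralizer_iff.1 hm₁ _ hee, mul_smul,
      (hP _).1 hee _ hbm]
  have heb : m₁ • b ≠ b := fun e => hb (smul_left_cancel m₁ (e.trans hm₁a.symm))
  obtain ⟨m₂, hm₂, hm₂b, hm₂e⟩ := htr _ hbm _ he _ ha heb hb.symm
  have hma : (m₂ * m₁) • S.a = b := by rw [mul_smul, hm₁a, hm₂b]
  have hmb : (m₂ * m₁) • b = S.a := by rw [mul_smul, hm₂e]
  have hd : (m₂ * m₁)⁻¹ * w ∈ pt2 G Ω S.a b :=
    mem_pt2.2 ⟨by rw [mul_smul, hwa, inv_smul_eq_iff, hma],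
      by rw [mul_smul, hwb, inv_smul_eq_iff, hmb]⟩
  have hkd := S.pt2_comm hb.symm hd (hPle k hkP)
  have hkm := mem_centralizer_iff.1 (mul_mem hm₂ hm₁) k hkP
  calc w * k = (m₂ * m₁) * (((m₂ * m₁)⁻¹ * w) * k) := by group
    _ = (m₂ * m₁) * (k * ((m₂ * m₁)⁻¹ * w)) := by rw [hkd]
    _ = k * w := by rw [← mul_assoc (m₂ * m₁) k, ← hkm]; group

end Setting

end CfsgLib.Perm.CycStab
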