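import Cfsg.Agent.Lib.Perm.CycStab.Core
import Cfsg.Agent.Lib.Coprime.SchurZassenhaus
import Cfsg.Agent.Lib.Char.CyclicBGroup
import Cfsg.Agent.Lib.PGroup.BurnsideSchur
import Cfsg.Agent.S0144
import Cfsg.Agent.S0205
import Cfsg.Agent.S0730

/-!
# A product of a cyclic group and a Z-group: the primitive case

`G = A B` non-solvable, `A` cyclic, `B` with cyclic Sylow subgroups, `M` a core free maximal
subgroup containing `B`: then `G ≅ PGL₂(p)`, `|A| = p + 1` and `|B| = p (p - 1)`.
-/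

set_option autoImplicit false
set_option linter.unusedSectionVars false

namespace CfsgLib.Perm.CycStab

open Subgroup MulAction

universe u

/-- A fixed point free permutation with one orbit of even size is odd. -/
theorem sign_full_cycle {Ω : Type*} [Fintype Ω] [DecidableEq Ω] (σ : Equiv.Perm Ω) (a : Ω)
    (hne : ∀ x, σ x ≠ x) (htr : ∀ y, ∃ i : ℤ, (σ ^ i) a = y) (heven : Even (Fintype.card Ω)) :
    Equiv.Perm.sign σ = -1 := by
  have hcyc : σ.IsCycle := ⟨a, hne a, fun y _ => htr y⟩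
  rw [hcyc.sign, show σ.support = Finset.univ from
    Finset.eq_univ_iff_forall.2 fun x => Equiv.Perm.mem_support.2 (hne x), Finset.card_univ,
    heven.neg_one_pow]

/-- A group with cyclic Sylow 2-subgroup is solvable. -/
theorem isSolvable_of_cyclic_two {G : Type u} [Group G] [Finite G] (P : Sylow 2 G)
    (hP : IsCyclic ↥(P : Subgroup G)) : Group.IsSolvable G := by
  haveI : Fact (Nat.Prime 2) := ⟨Nat.prime_two⟩
  haveI : IsCyclic ↥P := hP
  by_cases h2 : 2 ∣ Nat.card G
  · have hmin : (Nat.card G).minFac = 2 := (Nat.minFac_eq_two_iff _).2 h2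
    have hNC : normalizer ((P : Subgroup G) : Set G) ≤ centralizer ((P : Subgroup G) : Set G) :=
      IsCyclic.normalizer_le_centralizer hmin hP
    have hk : ¬ 2 ∣ Nat.card (MonoidHom.transferSylow P hNC).ker :=
      MonoidHom.not_dvd_card_ker_transferSylow P hNC
    haveI : Group.IsSolvable ↥(MonoidHom.transferSylow P hNC).ker :=
      Cfsg.Agent.S0205.result (Nat.not_even_iff_odd.1 fun h => hk h.two_dvd)
    haveI : Group.IsSolvable ↥P := by
      letI := IsCyclic.commGroup (α := ↥P)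
      infer_instance
    exact solvable_of_ker_le_range (MonoidHom.transferSylow P hNC).ker.subtype
      (MonoidHom.transferSylow P hNC) (by rw [Subgroup.range_subtype])
  · exact Cfsg.Agent.S0205.result (Nat.not_even_iff_odd.1 fun h => h2 h.two_dvd)

/-- A commutative Z-group is cyclic. -/
theorem isCyclic_of_comm {G : Type*} [Group G] [Finite G] [IsZGroup G]
    (h : ∀ x y : G, x * y = y * x) : IsCyclic G := by
  letI : CommGroup G := { (inferInstance : Group G) with mul_comm := h }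
  haveI : Group.IsNilpotent G := inferInstance
  infer_instance

/-- The derived group of a subgroup lies in the derived group. -/
theorem coe_mem_commutator {B : Type*} [Group B] (F : Subgroup B) {x : ↥F}
    (hx : x ∈ commutator ↥F) : (x : B) ∈ commutator B := by
  have h1 := Subgroup.mem_map_of_mem F.subtype hx
  rw [map_subtype_commutator] at h1
  exact Subgroup.commutator_mono le_top le_top h1

/-- The centraliser of the derived group of a Z-group is cyclic and self-centralising. -/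
theorem zgroup_kernel (B : Type*) [Group B] [Finite B] [IsZGroup B] :
    ∃ F : Subgroup B, F.Normal ∧ IsCyclic ↥F ∧ commutator B ≤ F ∧
      centralizer (F : Set B) ≤ F := by
  haveI := IsZGroup.isCyclic_commutator B
  have hle : commutator B ≤ centralizer (commutator B : Set B) := by
    intro x hx
    letI := IsCyclic.commGroup (α := ↥(commutator B))
    exact mem_centralizer_iff.2 fun y hy =>
      congrArg Subtype.val (mul_comm (⟨y, hy⟩ : ↥(commutator B)) ⟨x, hx⟩)
  refine ⟨centralizer (commutator B : Set B), inferInstance, ?_, hle,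
    fun x hx => mem_centralizer_iff.2 fun y hy => mem_centralizer_iff.1 hx y (hle hy)⟩
  set F := centralizer (commutator B : Set B)
  have hker : (Abelianization.of : ↥F →* Abelianization ↥F).ker ≤ center ↥F := by
    rw [Abelianization.ker_of]
    intro x hx
    have hx' : (x : B) ∈ commutator B := coe_mem_commutator F hx
    exact Subgroup.mem_center_iff.2 fun y => Subtype.ext (mem_centralizer_iff.1 y.2 _ hx').symm
  haveI : Group.IsNilpotent ↥F := Subgroup.isNilpotent_of_ker_le_center _ hker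
  infer_instance

/-- The point stabiliser data give a `Setting`, and the core theorem applies. -/
theorem stab_case {G Ω : Type u} [Group G] [Finite G] [Fintype Ω] [MulAction G Ω]
    [FaithfulSMul G Ω] (hns : ¬ Group.IsSolvable G) (A M : Subgroup G) [IsZGroup ↥M]
    (hA : IsCyclic ↥A) (a : Ω) (hst : stabilizer G a = M)
    (hA_free : ∀ g ∈ A, ∀ x : Ω, g • x = x → g = 1)
    (hA_trans : ∀ x : Ω, ∃ g ∈ A, g • a = x)
    (hfix : ∀ g : G, (∀ x : Ω, g • x = x) → g = 1)
    (hAcard : Nat.card A = Nat.card Ω) (hGcard : Nat.card G = Nat.card Ω * Nat.card M)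
    (heven : Even (Nat.card Ω)) (hn : 2 < Nat.card Ω)
    (htwo : ∀ {x y x' y' : Ω}, x ≠ y → x' ≠ y' → ∃ g : G, g • x = x' ∧ g • y = y') :
    ∃ p : ℕ, p.Prime ∧ 3 < p ∧ Nat.card G = (p + 1) * (p * (p - 1)) ∧ Nat.card A = p + 1 ∧
      Nat.card M = p * (p - 1) ∧ Nonempty (G ≃* Matrix.ProjGenLinGroup (Fin 2) (ZMod p)) := by
  classical
  haveI := hA
  have hAcomm : ∀ g ∈ A, ∀ h ∈ A, g * h = h * g := fun g hg h hh => by
    letI := IsCyclic.commGroup (α := ↥A)
    exact congrArg Subtype.val (mul_comm (⟨g, hg⟩ : ↥A) ⟨h, hh⟩)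
  -- the kernel `F` of `M`
  obtain ⟨F₀, hF₀n, hF₀c, hF₀comm, hF₀self⟩ := zgroup_kernel ↥M
  set F := F₀.map M.subtype
  have hFM : F ≤ M := map_subtype_le _
  haveI hFc : IsCyclic ↥F := isCyclic_of_surjective _ (M.subtype.subgroupMap_surjective F₀)
  have hFconj : ∀ h ∈ M, ∀ f ∈ F, h * f * h⁻¹ ∈ F := by
    rintro h hh _ ⟨f, hf, rfl⟩
    exact ⟨_, hF₀n.conj_mem f hf ⟨h, hh⟩, rfl⟩
  have hFcomm : ∀ x ∈ M, ∀ y ∈ M, x * y * x⁻¹ * y⁻¹ ∈ F := fun x hx y hy =>
    ⟨_, hF₀comm (Subgroup.commutator_mem_commutator (mem_top ⟨x, hx⟩) (mem_top ⟨y, hy⟩)), rfl⟩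
  have hFself : ∀ x ∈ M, (∀ f ∈ F, x * f = f * x) → x ∈ F := fun x hx h =>
    ⟨⟨x, hx⟩, hF₀self (mem_centralizer_iff.2 fun f hf =>
      Subtype.ext (h (f : G) ⟨f, hf, rfl⟩).symm), rfl⟩
  have hMa : ∀ {g : G}, g • a = a ↔ g ∈ M := fun {g} =>
    (mem_stabilizer_iff (a := a) (g := g)).symm.trans (SetLike.ext_iff.1 hst g)
  have hFfree : ∀ f ∈ F, ∀ x : Ω, x ≠ a → f • x = x → f = 1 := by
    intro f hf x hx hfx
    refine hfix f fun y => ?_
    by_cases hy : y = a
    · rw [hy]; exact hMa.2 (hFM hf)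
    · obtain ⟨h, hha, hhx⟩ := htwo (Ne.symm hx) (Ne.symm hy)
      have hh := hMa.1 hha
      -- subgroups of the cyclic normal subgroup are normal
      let K : Subgroup G := F ⊓ stabilizer G x
      have hle : K.map (MulAut.conj h).toMonoidHom ≤ F := by
        rintro _ ⟨k, hk, rfl⟩
        exact hFconj h hh k hk.1
      have hKeq := eq_of_card_eq_le hFc hle (inf_le_left : K ≤ F)
        (Nat.card_congr (K.equivMapOfInjective _ (MulAut.conj h).injective).toEquiv).symm
      obtain ⟨k, hk, hkf⟩ : f ∈ K.map (MulAut.conj h).toMonoidHom := hKeq.symm ▸ ⟨hf, hfx⟩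
      rw [← hkf]
      show (h * k * h⁻¹) • y = y
      rw [mul_smul, mul_smul, inv_smul_eq_iff.2 hhx.symm, show k • x = x from hk.2, hhx]
  have hDM : ∀ {y : Ω}, pt2 G Ω a y ≤ M := fun {y} d hd => hMa.1 (Setting.mem_pt2.1 hd).1
  have hDF : ∀ {y : Ω}, y ≠ a → ∀ d ∈ pt2 G Ω a y, d ∈ F → d = 1 := fun {y} hy d hd hdF =>
    hFfree d hdF y hy (Setting.mem_pt2.1 hd).2
  have hDcycA : ∀ {y : Ω}, y ≠ a → IsCyclic ↥(pt2 G Ω a y) := by
    intro y hy
    haveI : IsZGroup ↥(pt2 G Ω a y) := IsZGroup.of_injective (f := Subgroup.inclusion (hDM (y := y)))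
      (Subgroup.inclusion_injective _)
    refine isCyclic_of_comm fun d e => Subtype.ext ?_
    have h1 := hDF hy _ (mul_mem (mul_mem (mul_mem d.2 e.2) (inv_mem d.2)) (inv_mem e.2))
      (hFcomm _ (hDM d.2) _ (hDM e.2))
    show (d : G) * e = e * d
    calc (d : G) * e = ((d : G) * e * (d : G)⁻¹ * (e : G)⁻¹) * (e * d) := by group
      _ = e * d := by rw [h1, one_mul]
  -- the involution of `A`
  haveI : Fact (Nat.Prime 2) := ⟨Nat.prime_two⟩
  obtain ⟨z₀, hz₀⟩ := exists_prime_orderOf_dvd_card' (G := ↥A) 2 (hAcard ▸ heven.two_dvd)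
  set z : G := (z₀ : G)
  have hz2 : orderOf z = 2 := by rwa [orderOf_coe]
  set b := z • a with hbdef
  have hb : b ≠ a := fun e => by
    have := hA_free z z₀.2 a e
    rw [this, orderOf_one] at hz2
    omega
  have hzb : z • b = a := Setting.smul_smul_of_two hz2 _
  set D := pt2 G Ω a b
  haveI hDcyc : IsCyclic ↥D := hDcycA hb
  -- conjugates
  have hunique : ∀ {x y : Ω}, x ≠ y → D ≤ pt2 G Ω x y → pt2 G Ω x y = D := by
    intro x y hxy hle
    obtain ⟨g, hgx, hgy⟩ := htwo hb.symm hxy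
    refine (Subgroup.eq_of_le_of_card_ge hle ?_).symm
    rw [← hgx, ← hgy, ← Setting.conj_pt2]
    exact (Nat.card_congr (D.equivMapOfInjective _ (MulAut.conj g).injective).toEquiv).ge
  set Δ := fixedPoints D Ω
  have hmemΔ : ∀ {x : Ω}, x ∈ Δ ↔ ∀ d ∈ D, d • x = x := fun {x} =>
    ⟨fun h d hd => h ⟨d, hd⟩, fun h d => h d d.2⟩
  have haΔ : a ∈ Δ := hmemΔ.2 fun d hd => (Setting.mem_pt2.1 hd).1
  have hbΔ : b ∈ Δ := hmemΔ.2 fun d hd => (Setting.mem_pt2.1 hd).2
  have hNtwo : ∀ {x y x' y' : Ω}, x ∈ Δ → y ∈ Δ → x' ∈ Δ → y' ∈ Δ → x ≠ y → x' ≠ y' →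
      ∃ g ∈ (normalizer (D : Set G)), g • x = x' ∧ g • y = y' := by
    intro x y x' y' hx hy hx' hy' hxy hxy'
    obtain ⟨g, h1, h2⟩ := htwo hxy hxy'
    refine ⟨g, ?_, h1, h2⟩
    rw [mem_normalizer_iff_map_conj_eq]
    have e1 := hunique hxy fun d hd => Setting.mem_pt2.2 ⟨hmemΔ.1 hx d hd, hmemΔ.1 hy d hd⟩
    have e2 := hunique hxy' fun d hd => Setting.mem_pt2.2 ⟨hmemΔ.1 hx' d hd, hmemΔ.1 hy' d hd⟩
    have e3 := Setting.conj_pt2 (G := G) g x y
    rw [h1, h2, e1, e2] at e3
    exact e3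
  have hNΔ : ∀ g ∈ (normalizer (D : Set G)), ∀ x ∈ Δ, g • x ∈ Δ := by
    intro g hg x hx
    refine hmemΔ.2 fun d hd => ?_
    have h1 : g⁻¹ * d * g ∈ D := by
      simpa using (mem_normalizer_iff.1 (inv_mem hg) d).1 hd
    have := hmemΔ.1 hx _ h1
    rwa [mul_smul, mul_smul, inv_smul_eq_iff] at this
  -- `Fix D = {a, b}`
  have hΔ2 : ∀ x ∈ Δ, x = a ∨ x = b := by
    by_contra hcon
    push Not at hcon
    obtain ⟨c, hc, hca, hcb⟩ := hcon
    -- the stabiliser of `a` in `(normalizer (D : Set G))` centralises `D`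
    have hNa : ∀ h ∈ (normalizer (D : Set G)), h • a = a → ∀ d ∈ D, h * d = d * h := by
      intro h hh hha d hd
      have h1 : h * d * h⁻¹ * d⁻¹ ∈ D :=
        mul_mem ((mem_normalizer_iff.1 hh d).1 hd) (inv_mem hd)
      have h2 := hDF hb _ h1 (hFcomm _ (hMa.1 hha) _ (hDM hd))
      exact mul_inv_eq_iff_eq_mul.1 (mul_inv_eq_one.1 h2)
    have hcent : ∀ g ∈ (normalizer (D : Set G)), ∀ d ∈ D, g * d = d * g := by
      intro g hg d hd
      by_cases hga : g • a = a
      · exact hNa g hg hga d hd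
      obtain ⟨e, he, hea, hega⟩ : ∃ e ∈ Δ, e ≠ a ∧ e ≠ g • a := by
        by_cases hbg : b = g • a
        · exact ⟨c, hc, hca, hbg ▸ hcb⟩
        · exact ⟨b, hbΔ, hb, hbg⟩
      obtain ⟨k, hk, hke, hka⟩ := hNtwo he haΔ he (hNΔ g hg a haΔ) hea hega
      obtain ⟨l, hl, hle, -⟩ := hNtwo he haΔ haΔ hbΔ hea hb.symm
      have hkc : ∀ d ∈ D, k * d = d * k := by
        intro d hd
        have hfix' : (l * k * l⁻¹) • a = a := by
          rw [mul_smul, mul_smul, inv_smul_eq_iff.2 hle.symm, hke, hle]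
        have hd' : l * d * l⁻¹ ∈ D := (mem_normalizer_iff.1 hl d).1 hd
        have h := hNa _ (mul_mem (mul_mem hl hk) (inv_mem hl)) hfix' _ hd'
        calc k * d = l⁻¹ * ((l * k * l⁻¹) * (l * d * l⁻¹)) * l := by group
          _ = l⁻¹ * ((l * d * l⁻¹) * (l * k * l⁻¹)) * l := by rw [h]
          _ = d * k := by group
      have hr : (k⁻¹ * g) • a = a := by rw [mul_smul, inv_smul_eq_iff, hka]
      have h1 := hNa _ (mul_mem (inv_mem hk) hg) hr d hd
      calc g * d = k * ((k⁻¹ * g) * d) := by group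
        _ = k * (d * (k⁻¹ * g)) := by rw [h1]
        _ = d * g := by rw [← mul_assoc k d, hkc d hd]; group
    have hzN : z ∈ (normalizer (D : Set G)) := by
      rw [mem_normalizer_iff_map_conj_eq]
      have := Setting.conj_pt2 (G := G) z a b
      rw [hzb, ← hbdef, show pt2 G Ω b a = pt2 G Ω a b from inf_comm _ _] at this
      exact this
    -- `A ∩ (normalizer (D : Set G))` is transitive on `Δ`
    have hAN : ∀ x ∈ Δ, ∃ g ∈ A, g ∈ (normalizer (D : Set G)) ∧ g • a = x := by
      intro x hx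
      obtain ⟨g, hg, hgx⟩ := hA_trans x
      refine ⟨g, hg, ?_, hgx⟩
      have hle : D.map (MulAut.conj g⁻¹).toMonoidHom ≤ D := by
        rintro _ ⟨d, hd, rfl⟩
        simp only [MulEquiv.coe_toMonoidHom, MulAut.conj_apply, inv_inv]
        have h0 : (g⁻¹ * d * g) • a = a := by
          rw [mul_smul, mul_smul, hgx, hmemΔ.1 hx d hd, ← hgx, inv_smul_smul]
        have hzc : z * (g⁻¹ * d * g) = (g⁻¹ * d * g) * z := by
          have c1 := hAcomm g⁻¹ (inv_mem hg) z z₀.2
          have c2 := hAcomm g hg z z₀.2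
          calc z * (g⁻¹ * d * g) = (z * g⁻¹) * d * g := by group
            _ = g⁻¹ * (z * d) * g := by rw [← c1]; group
            _ = g⁻¹ * d * (z * g) := by rw [hcent z hzN d hd]; group
            _ = (g⁻¹ * d * g) * z := by rw [← c2]; group
        exact Setting.mem_pt2.2 ⟨h0, by rw [hbdef, ← mul_smul, ← hzc, mul_smul, h0]⟩
      have h1 : g⁻¹ ∈ (normalizer (D : Set G)) := mem_normalizer_iff_map_conj_eq.2 (Subgroup.eq_of_le_of_card_ge hle
        (Nat.card_congr (D.equivMapOfInjective _ (MulAut.conj g⁻¹).injective).toEquiv).le)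
      simpa using inv_mem h1
    letI : Fintype ↥(fixSub (Ω := Ω) D) := Fintype.ofFinite _
    let π := MulAction.toPermHom ↥(normalizer (D : Set G)) ↥(fixSub (Ω := Ω) D)
    let s := Equiv.Perm.sign.comp π
    -- stabilisers act by permutations of odd order
    have hodd : ∀ h : ↥(normalizer (D : Set G)), (h : G) • a = a → s h = 1 := by
      intro h hh
      let Na : Subgroup ↥(normalizer (D : Set G)) := (stabilizer G a).subgroupOf (normalizer (D : Set G))
      let ρ : ↥Na →* Equiv.Perm ↥(fixSub (Ω := Ω) D) := π.comp Na.subtype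
      have hρsize : Nat.card ρ.range + 1 = Nat.card ↥(fixSub (Ω := Ω) D) := by
        have e2 : Nat.card {x : ↥(fixSub (Ω := Ω) D) // (x : Ω) ≠ a} + 1 =
            Nat.card ↥(fixSub (Ω := Ω) D) := by
          have hiff : ∀ x : ↥(fixSub (Ω := Ω) D), (x : Ω) ≠ a ↔ ¬ x = ⟨a, haΔ⟩ := fun x =>
            not_congr ⟨fun e => Subtype.ext e, fun e => congrArg Subtype.val e⟩
          rw [Nat.card_congr (Equiv.subtypeEquivRight hiff), Nat.card_eq_fintype_card,
            Fintype.card_subtype_compl, Fintype.card_subtype_eq, Nat.card_eq_fintype_card]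
          have : 0 < Fintype.card ↥(fixSub (Ω := Ω) D) := Fintype.card_pos_iff.2 ⟨⟨a, haΔ⟩⟩
          omega
        rw [← e2]
        congr 1
        have hmove : ∀ σ : ↥ρ.range, ((σ.1 ⟨b, hbΔ⟩ : ↥(fixSub (Ω := Ω) D)) : Ω) ≠ a := by
          rintro ⟨_, u, rfl⟩ e
          exact hb (smul_left_cancel ((u : ↥(normalizer (D : Set G))) : G) (e.trans (u.2 : ((u : ↥(normalizer (D : Set G))) : G) • a = a).symm))
        refine Nat.card_congr (Equiv.ofBijective
          (fun σ : ↥ρ.range => (⟨σ.1 ⟨b, hbΔ⟩, hmove σ⟩ : {x : ↥(fixSub (Ω := Ω) D) // (x : Ω) ≠ a}))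
          ⟨?_, ?_⟩)
        · rintro ⟨_, u, rfl⟩ ⟨_, v, rfl⟩ e
          have e' : ((u : ↥(normalizer (D : Set G))) : G) • b = ((v : ↥(normalizer (D : Set G))) : G) • b :=
            congrArg (fun x : {x : ↥(fixSub (Ω := Ω) D) // (x : Ω) ≠ a} =>
              ((x : ↥(fixSub (Ω := Ω) D)) : Ω)) e
          have hd : ((u : ↥(normalizer (D : Set G))) : G)⁻¹ * ((v : ↥(normalizer (D : Set G))) : G) ∈ D := Setting.mem_pt2.2
            ⟨by rw [mul_smul, show ((v : ↥(normalizer (D : Set G))) : G) • a = a from v.2, inv_smul_eq_iff,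
              show ((u : ↥(normalizer (D : Set G))) : G) • a = a from u.2],
             by rw [mul_smul, ← e', inv_smul_smul]⟩
          refine Subtype.ext (Equiv.ext fun x => Subtype.ext ?_)
          show ((u : ↥(normalizer (D : Set G))) : G) • (x : Ω) = ((v : ↥(normalizer (D : Set G))) : G) • (x : Ω)
          have := hmemΔ.1 x.2 _ hd
          rw [mul_smul, inv_smul_eq_iff] at this
          exact this.symm
        · rintro ⟨x, hx⟩
          obtain ⟨g, hg, hga, hgb⟩ := hNtwo haΔ hbΔ haΔ x.2 hb.symm (Ne.symm hx)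
          exact ⟨⟨π ⟨g, hg⟩, ⟨⟨g, hg⟩, hga⟩, rfl⟩, Subtype.ext (Subtype.ext hgb)⟩
      have hev : Even (Nat.card ↥(fixSub (Ω := Ω) D)) := by
        have hinv : Function.Involutive (π ⟨z, hzN⟩) := fun x =>
          Subtype.ext (Setting.smul_smul_of_two hz2 (x : Ω))
        have hsupp : (π ⟨z, hzN⟩).support = Finset.univ :=
          Finset.eq_univ_iff_forall.2 fun x => Equiv.Perm.mem_support.2 fun e => by
            have := hA_free z z₀.2 (x : Ω) (congrArg Subtype.val e)
            rw [this, orderOf_one] at hz2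
            omega
        have h1 := Equiv.Perm.card_compl_support_modEq (p := 2) (n := 1) (σ := π ⟨z, hzN⟩)
          (by rw [pow_one, sq]; exact Equiv.ext hinv)
        rw [hsupp, Finset.compl_univ, Finset.card_empty, ← Nat.card_eq_fintype_card] at h1
        exact Nat.even_iff.2 h1.symm
      have hoddr : Odd (Nat.card ρ.range) := by
        rw [← Nat.not_even_iff_odd]
        intro he
        exact absurd (hρsize ▸ hev) (Nat.not_even_iff_odd.2 he.add_one)
      have hh' : h ∈ Na := hh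
      have hmem : π h ∈ ρ.range := ⟨⟨h, hh'⟩, rfl⟩
      have ho : Odd (orderOf (π h)) := hoddr.of_dvd_nat (by
        rw [← Subgroup.orderOf_mk (π h) hmem]
        exact orderOf_dvd_natCard _)
      rcases Int.units_eq_one_or (s h) with h1 | h1
      · exact h1
      · exfalso
        have := map_pow Equiv.Perm.sign (π h) (orderOf (π h))
        rw [pow_orderOf_eq_one, map_one, show Equiv.Perm.sign (π h) = -1 from h1, ho.neg_one_pow] at this
        exact absurd this (by decide)
    have hall : ∀ h : ↥(normalizer (D : Set G)), s h = 1 := by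
      intro g
      by_cases hga : (g : G) • a = a
      · exact hodd g hga
      obtain ⟨e, he, hea, hega⟩ : ∃ e ∈ Δ, e ≠ a ∧ e ≠ (g : G) • a := by
        by_cases hbg : b = (g : G) • a
        · exact ⟨c, hc, hca, hbg ▸ hcb⟩
        · exact ⟨b, hbΔ, hb, hbg⟩
      obtain ⟨k, hk, hke, hka⟩ := hNtwo he haΔ he (hNΔ g g.2 a haΔ) hea hega
      obtain ⟨l, hl, hle, -⟩ := hNtwo he haΔ haΔ hbΔ hea hb.symm
      have h1 : s ⟨k, hk⟩ = 1 := by
        have h := hodd (⟨l, hl⟩ * ⟨k, hk⟩ * ⟨l, hl⟩⁻¹) (by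
          show (l * k * l⁻¹) • a = a
          rw [mul_smul, mul_smul, inv_smul_eq_iff.2 hle.symm, hke, hle])
        rwa [map_mul, map_mul, map_inv, mul_comm, ← mul_assoc, inv_mul_cancel, one_mul] at h
      have h2 := hodd ((⟨k, hk⟩ : ↥(normalizer (D : Set G)))⁻¹ * g) (by
        show (k⁻¹ * (g : G)) • a = a
        rw [mul_smul, inv_smul_eq_iff, hka])
      rwa [map_mul, map_inv, h1, inv_one, one_mul] at h2
    -- a generator of `A ∩ (normalizer (D : Set G))` is a full cycle of even length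
    haveI : IsCyclic ↥(A ⊓ (normalizer (D : Set G)) : Subgroup G) := Subgroup.isCyclic_of_le (H' := A) inf_le_left
    obtain ⟨⟨w, hw⟩, hwgen⟩ := IsCyclic.exists_generator (α := ↥(A ⊓ (normalizer (D : Set G)) : Subgroup G))
    have hwA : w ∈ A := hw.1
    have hev : Even (Fintype.card ↥(fixSub (Ω := Ω) D)) := by
      have hinv : Function.Involutive (π ⟨z, hzN⟩) := fun x =>
        Subtype.ext (Setting.smul_smul_of_two hz2 (x : Ω))
      have hsupp : (π ⟨z, hzN⟩).support = Finset.univ :=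
        Finset.eq_univ_iff_forall.2 fun x => Equiv.Perm.mem_support.2 fun e => by
          have := hA_free z z₀.2 (x : Ω) (congrArg Subtype.val e)
          rw [this, orderOf_one] at hz2
          omega
      have h1 := Equiv.Perm.card_compl_support_modEq (p := 2) (n := 1) (σ := π ⟨z, hzN⟩)
        (by rw [pow_one, sq]; exact Equiv.ext hinv)
      rw [hsupp, Finset.compl_univ, Finset.card_empty] at h1
      exact Nat.even_iff.2 h1.symm
    have hcycle := sign_full_cycle (π ⟨w, hw.2⟩) ⟨a, haΔ⟩ ?_ ?_ hev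
    · exact absurd ((hall ⟨w, hw.2⟩).symm.trans hcycle) (by decide)
    · intro x e
      have hw1 : w = 1 := hA_free w hwA (x : Ω) (congrArg Subtype.val e)
      obtain ⟨g, hg, hgN, hgx⟩ := hAN b hbΔ
      obtain ⟨i, hi⟩ := mem_zpowers_iff.1 (hwgen ⟨g, hg, hgN⟩)
      have hgi : w ^ i = g := by simpa using congrArg Subtype.val hi
      rw [hw1, one_zpow] at hgi
      rw [← hgi, one_smul] at hgx
      exact hb hgx.symm
    · intro y
      obtain ⟨g, hg, hgN, hgy⟩ := hAN (y : Ω) y.2
      obtain ⟨i, hi⟩ := mem_zpowers_iff.1 (hwgen ⟨g, hg, hgN⟩)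
      have hgi : w ^ i = g := by simpa using congrArg Subtype.val hi
      refine ⟨i, ?_⟩
      rw [← map_zpow]
      apply Subtype.ext
      show (((⟨w, hw.2⟩ : ↥(normalizer (D : Set G))) ^ i : ↥(normalizer (D : Set G))) : G) • a = (y : Ω)
      rw [Subgroup.coe_zpow, hgi, hgy]
  -- `F` is transitive off `a`
  have hFtr : ∀ x : Ω, x ≠ a → ∃ f ∈ F, f • b = x := by
    intro x hx
    obtain ⟨h, hha, hhb⟩ := htwo hb.symm (Ne.symm hx)
    have hh := hMa.1 hha
    have hDnorm : D ≤ normalizer (F : Set G) := fun d hd => by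
      rw [mem_normalizer_iff]
      intro f
      refine ⟨hFconj d (hDM hd) f, fun hf => ?_⟩
      have := hFconj d⁻¹ (inv_mem (hDM hd)) _ hf
      simpa [mul_assoc] using this
    have hsub : D.map (MulAut.conj h).toMonoidHom ≤ D ⊔ F := by
      rintro _ ⟨d, hd, rfl⟩
      have e : h * d * h⁻¹ = (h * d * h⁻¹ * d⁻¹) * d := by group
      show h * d * h⁻¹ ∈ D ⊔ F
      rw [e]
      exact mul_mem (Subgroup.mem_sup_right (hFcomm _ hh _ (hDM hd))) (Subgroup.mem_sup_left hd)
    have hcop : (Nat.card F).Coprime (Nat.card D) := by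
      refine Nat.coprime_of_dvd' fun q hq hqF hqD => ?_
      exfalso
      haveI := Fact.mk hq
      obtain ⟨f, hf⟩ := exists_prime_orderOf_dvd_card' (G := ↥F) q hqF
      obtain ⟨d, hd⟩ := exists_prime_orderOf_dvd_card' (G := ↥D) q hqD
      rw [← orderOf_coe] at hf hd
      -- both lie in one Sylow subgroup of `M`
      let fM : ↥M := ⟨f, hFM f.2⟩
      let dM : ↥M := ⟨d, hDM d.2⟩
      have hfo : orderOf fM = q := by rw [← orderOf_coe fM]; exact hf
      have hdo : orderOf dM = q := by rw [← orderOf_coe dM]; exact hd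
      obtain ⟨Q, hQ⟩ := (IsPGroup.of_card (p := q) (n := 1) (G := ↥(zpowers dM))
        (by rw [Nat.card_zpowers, hdo, pow_one])).exists_le_sylow
      obtain ⟨R, hR⟩ := (IsPGroup.of_card (p := q) (n := 1) (G := ↥(zpowers fM))
        (by rw [Nat.card_zpowers, hfo, pow_one])).exists_le_sylow
      obtain ⟨k, hk⟩ := MulAction.exists_smul_eq ↥M R Q
      have hfk : k * fM * k⁻¹ ∈ Q := by
        rw [← hk]
        show k * fM * k⁻¹ ∈ ((k • R : Sylow q ↥M) : Subgroup ↥M)
        rw [Sylow.coe_subgroup_smul]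
        exact Subgroup.smul_mem_pointwise_smul fM (MulAut.conj k) _ (hR (mem_zpowers _))
      haveI : IsCyclic ↥(Q : Subgroup ↥M) := IsZGroup.isZGroup q hq Q
      have heq := eq_of_card_eq_le (D := (Q : Subgroup ↥M)) inferInstance
        (zpowers_le.2 (hQ (mem_zpowers dM))) (zpowers_le.2 hfk)
        (by rw [Nat.card_zpowers, Nat.card_zpowers, hdo,
          show orderOf (k * fM * k⁻¹) = q from (MulEquiv.orderOf_eq (MulAut.conj k) fM).trans hfo])
      obtain ⟨i, hi⟩ := mem_zpowers_iff.1 (heq ▸ mem_zpowers dM)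
      have hdF : (d : G) ∈ F := by
        have e := congrArg Subtype.val hi
        simp only [Subgroup.coe_zpow, Subgroup.coe_mul, Subgroup.coe_inv] at e
        rw [show (d : G) = (dM : G) from rfl, ← e]
        exact zpow_mem (hFconj _ k.2 _ f.2) i
      have := hDF hb d d.2 hdF
      rw [this, orderOf_one] at hd
      exact hq.one_lt.ne hd
    obtain ⟨f, hf, hfe⟩ := CfsgLib.Coprime.sz_conj_in (A := D) (B := D.map (MulAut.conj h).toMonoidHom)
      (N := F) hDnorm hcop hsub
      (Nat.card_congr (D.equivMapOfInjective _ (MulAut.conj h).injective).toEquiv).symm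
      (Or.inl (by
        letI := IsCyclic.commGroup (α := ↥D)
        infer_instance))
    have hy : f • x ∈ Δ := by
      refine hmemΔ.2 fun d hd => ?_
      rw [← hfe] at hd
      obtain ⟨_, ⟨d', hd', rfl⟩, rfl⟩ := hd
      simp only [MulEquiv.coe_toMonoidHom, MulAut.conj_apply]
      rw [mul_smul, mul_smul, inv_smul_smul, mul_smul, mul_smul, ← hhb, inv_smul_smul,
        (Setting.mem_pt2.1 hd').2]
    have hyne : f • x ≠ a := fun e => hx (smul_left_cancel f (e.trans (hMa.2 (hFM hf)).symm))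
    refine ⟨f⁻¹, inv_mem hf, ?_⟩
    rw [← (hΔ2 _ hy).resolve_left hyne, inv_smul_smul]
  let S : Setting G Ω :=
    { faithful := hfix
      two := htwo
      a := a
      A := A
      A_cyc := hA
      A_free := hA_free
      A_trans := hA_trans
      F := F
      F_le := hst.symm ▸ hFM
      F_conj := fun h hh => hFconj h (hMa.1 hh)
      F_cyc := hFc
      F_free := hFfree
      F_trans := fun {x y} hx hy => by
        obtain ⟨f, hf, hfx⟩ := hFtr x hx
        obtain ⟨g, hg, hgy⟩ := hFtr y hy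
        exact ⟨g * f⁻¹, mul_mem hg (inv_mem hf), by rw [← hfx, mul_smul, inv_smul_smul, hgy]⟩
      D_cyc := fun {x y} hxy => by
        obtain ⟨g, hgx, hgy⟩ := htwo hb.symm hxy
        rw [← hgx, ← hgy, ← Setting.conj_pt2]
        exact isCyclic_of_surjective _ ((MulAut.conj g).toMonoidHom.subgroupMap_surjective D) }
  obtain ⟨p, hp, hnp, hcard, h3, hsharp⟩ := core S heven hn
  have hp3 : 3 < p := by
    by_contra hle
    have h2 := hp.two_le
    have hp' : p = 2 ∨ p = 3 := by omega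
    rcases hp' with rfl | rfl
    · rw [hnp] at heven
      exact absurd heven (by decide)
    · exact hns (Cfsg.Agent.S0144.result 2 3 3 1 Nat.prime_two Nat.prime_three (by rw [hcard]; norm_num))
  refine ⟨p, hp, hp3, hcard, by rw [hAcard, hnp], ?_, ?_⟩
  · rw [hGcard, hnp] at hcard
    exact Nat.eq_of_mul_eq_mul_left (Nat.succ_pos p) hcard
  · let π₀ : G →* Equiv.Perm Ω := MulAction.toPermHom G Ω
    let eG : G ≃* ↥π₀.range := MonoidHom.ofInjective (fun g h e => eq_of_smul_eq_smul (α := Ω)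
      fun x => congrArg (fun σ : Equiv.Perm Ω => σ x) e)
    have heG : ∀ (g : G) (x : Ω), (eG g) • x = g • x := fun g x => rfl
    obtain ⟨F', hF', hF'f, hFcard, ⟨e⟩⟩ := Cfsg.Agent.S0730.result (α := Ω) hp (by omega)
      odd_one (by rw [← Nat.card_eq_fintype_card, hnp, pow_one]) π₀.range
      ⟨fun x y => by
        obtain ⟨g, hg⟩ := h3.exists_smul_eq x y
        exact ⟨eG g, by
          ext i
          exact (congrArg (fun v : Fin 3 ↪ Ω => v i) hg)⟩⟩
      (fun v => (Subgroup.eq_bot_iff_forall _).2 fun g hg => by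
        obtain ⟨g, rfl⟩ := eG.surjective g
        have hv : ∀ i, g • v i = v i := fun i => congrArg (fun w : Fin 3 ↪ Ω => w i) hg
        rw [hsharp g (v 0) (v 1) (v 2) (v.injective.ne (by decide)) (v.injective.ne (by decide))
          (v.injective.ne (by decide)) (hv 0) (hv 1) (hv 2), map_one])
    haveI := Fact.mk hp
    haveI : CharP F' p := by
      obtain ⟨q, hq⟩ := CharP.exists F'
      obtain ⟨n, hqp, hcardq⟩ := FiniteField.card F' q
      have : q = p := (Nat.prime_dvd_prime_iff_eq hqp hp).1 (by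
        have h := dvd_pow_self q (n := (n : ℕ)) n.ne_zero
        rwa [← hcardq, hFcard, pow_one] at h)
      exact this ▸ hq
    let r : ZMod p ≃+* F' := ZMod.ringEquiv F' (by rw [hFcard, pow_one])
    refine ⟨(eG.trans e).trans (QuotientGroup.congr _ _
      (Units.mapEquiv (RingEquiv.mapMatrix (m := Fin 2) r.symm).toMulEquiv) ?_)⟩
    ext g
    simp only [Subgroup.mem_map, Subgroup.mem_center_iff]
    constructor
    · rintro ⟨c, hc, rfl⟩ k
      obtain ⟨k, rfl⟩ := (Units.mapEquiv (RingEquiv.mapMatrix (m := Fin 2) r.symm).toMulEquiv).surjective k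
      show _ * (Units.mapEquiv (RingEquiv.mapMatrix (m := Fin 2) r.symm).toMulEquiv) c =
        (Units.mapEquiv (RingEquiv.mapMatrix (m := Fin 2) r.symm).toMulEquiv) c * _
      rw [← map_mul, ← map_mul, hc]
    · intro hg
      obtain ⟨c, rfl⟩ := (Units.mapEquiv (RingEquiv.mapMatrix (m := Fin 2) r.symm).toMulEquiv).surjective g
      refine ⟨c, fun k => ?_, rfl⟩
      apply (Units.mapEquiv (RingEquiv.mapMatrix (m := Fin 2) r.symm).toMulEquiv).injective
      rw [map_mul, map_mul, hg]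

/-- The primitive case of a product of a cyclic group and a Z-group. -/
theorem primitive_case {G : Type u} [Group G] [Finite G] (hns : ¬ Group.IsSolvable G)
    (A B M : Subgroup G) (hA : IsCyclic ↥A) [hB : IsZGroup ↥B]
    (hAB : ∀ g : G, ∃ a ∈ A, ∃ b ∈ B, g = a * b) (hM : IsCoatom M) (hBM : B ≤ M)
    (hcore : M.normalCore = ⊥) :
    ∃ p : ℕ, p.Prime ∧ 3 < p ∧ Nat.card G = (p + 1) * (p * (p - 1)) ∧ Nat.card A = p + 1 ∧
      Nat.card B = p * (p - 1) ∧ Nonempty (G ≃* Matrix.ProjGenLinGroup (Fin 2) (ZMod p)) := by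
  classical
  let Ω := G ⧸ M
  letI : Fintype Ω := Fintype.ofFinite Ω
  let a : Ω := ((1 : G) : G ⧸ M)
  haveI := hA
  have hAcomm : ∀ g ∈ A, ∀ h ∈ A, g * h = h * g := fun g hg h hh => by
    letI := IsCyclic.commGroup (α := ↥A)
    exact congrArg Subtype.val (mul_comm (⟨g, hg⟩ : ↥A) ⟨h, hh⟩)
  have hAM : A ⊓ M = ⊥ := by
    rw [← le_bot_iff, ← hcore]
    rintro x ⟨hxA, hxM⟩ g
    obtain ⟨u, hu, v, hv, hguv⟩ := hAB g⁻¹
    have hg : g = v⁻¹ * u⁻¹ := by rw [← mul_inv_rev, ← hguv, inv_inv]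
    subst hg
    have e : v⁻¹ * u⁻¹ * x * (v⁻¹ * u⁻¹)⁻¹ = v⁻¹ * x * v := by
      have := hAcomm u⁻¹ (A.inv_mem hu) x hxA
      calc v⁻¹ * u⁻¹ * x * (v⁻¹ * u⁻¹)⁻¹ = v⁻¹ * (u⁻¹ * x) * u * v := by group
        _ = v⁻¹ * (x * u⁻¹) * u * v := by rw [this]
        _ = v⁻¹ * x * v := by group
    rw [e]
    exact mul_mem (mul_mem (inv_mem (hBM hv)) hxM) (hBM hv)
  have hMB : M ≤ B := by
    intro m hm
    obtain ⟨u, hu, v, hv, rfl⟩ := hAB m
    have : u ∈ A ⊓ M := ⟨hu, by simpa using mul_mem hm (inv_mem (hBM hv))⟩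
    rw [hAM, mem_bot] at this
    rwa [this, one_mul]
  obtain rfl : M = B := le_antisymm hMB hBM
  have hst : stabilizer G a = M := by
    ext g
    rw [mem_stabilizer_iff]
    show ((g * 1 : G) : G ⧸ M) = ((1 : G) : G ⧸ M) ↔ g ∈ M
    rw [QuotientGroup.eq]
    simp
  have hA_free : ∀ g ∈ A, ∀ x : Ω, g • x = x → g = 1 := by
    intro g hg x hx
    obtain ⟨k, rfl⟩ := QuotientGroup.mk_surjective x
    obtain ⟨u, hu, v, hv, rfl⟩ := hAB k
    have hx' : ((g * (u * v) : G) : G ⧸ M) = ((u * v : G) : G ⧸ M) := hx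
    rw [QuotientGroup.eq] at hx'
    have hk : g⁻¹ ∈ M := by
      have h1 : v⁻¹ * (u⁻¹ * g⁻¹ * u) * v ∈ M := by simpa [mul_assoc] using hx'
      rw [hAcomm u⁻¹ (A.inv_mem hu) g⁻¹ (A.inv_mem hg), inv_mul_cancel_right] at h1
      simpa [mul_assoc] using mul_mem (mul_mem hv h1) (inv_mem hv)
    have : g⁻¹ ∈ A ⊓ M := Subgroup.mem_inf.2 ⟨A.inv_mem hg, hk⟩
    rw [hAM, mem_bot, inv_eq_one] at this
    exact this
  have hA_trans : ∀ x : Ω, ∃ g ∈ A, g • a = x := by
    intro x
    obtain ⟨k, rfl⟩ := QuotientGroup.mk_surjective x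
    obtain ⟨u, hu, v, hv, rfl⟩ := hAB k
    refine ⟨u, hu, ?_⟩
    show ((u * 1 : G) : G ⧸ M) = _
    rw [QuotientGroup.eq]
    simpa using hv
  haveI hfaith : FaithfulSMul G Ω := ⟨fun {g h} e => by
    have : g⁻¹ * h ∈ M.normalCore := by
      rw [Subgroup.normalCore_eq_ker, MonoidHom.mem_ker]
      exact Equiv.ext fun x => by
        show (g⁻¹ * h) • x = x
        rw [mul_smul, ← e x, inv_smul_smul]
    rw [hcore, mem_bot] at this
    exact inv_mul_eq_one.1 this⟩
  have hfix : ∀ g : G, (∀ x : Ω, g • x = x) → g = 1 := fun g hg =>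
    eq_of_smul_eq_smul (α := Ω) fun x => by rw [hg, one_smul]
  have hAcard : Nat.card A = Nat.card Ω := Nat.card_congr (Equiv.ofBijective (fun g : ↥A => (g : G) • a)
    ⟨fun g g' e => Subtype.ext (inv_mul_eq_one.1 (hA_free _ (mul_mem (inv_mem g.2) g'.2) a
      (by
        have e' : (g : G) • a = (g' : G) • a := e
        rw [mul_smul, ← e', inv_smul_smul]))),
    fun x => by obtain ⟨g, hg, hgx⟩ := hA_trans x; exact ⟨⟨g, hg⟩, hgx⟩⟩)
  have hGcard : Nat.card G = Nat.card Ω * Nat.card M := by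
    rw [← Subgroup.card_mul_index M, mul_comm, Subgroup.index_eq_card]
  haveI hsolM : Group.IsSolvable ↥M := inferInstance
  have hMne : M ≠ ⊤ := hM.1
  haveI : Nontrivial Ω := by
    rw [← Finite.one_lt_card_iff_nontrivial, ← Subgroup.index_eq_card]
    exact (Subgroup.one_lt_index_of_ne_top hMne)
  -- even degree
  have heven : Even (Nat.card Ω) := by
    rw [← Nat.not_odd_iff_even]
    intro hodd
    haveI : Fact (Nat.Prime 2) := ⟨Nat.prime_two⟩
    obtain ⟨P⟩ : Nonempty (Sylow 2 ↥M) := inferInstance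
    obtain ⟨Q, hQ⟩ := (P.isPGroup'.map M.subtype).exists_le_sylow
    have hc : Nat.card ((P : Subgroup ↥M).map M.subtype) = Nat.card (Q : Subgroup G) := by
      rw [Q.card_eq_multiplicity, Subgroup.card_map_of_injective M.subtype_injective,
        P.card_eq_multiplicity, hGcard, Nat.factorization_mul (by
          exact Nat.card_pos.ne') Nat.card_pos.ne', Finsupp.add_apply,
        Nat.factorization_eq_zero_of_not_dvd (fun h => Nat.not_even_iff_odd.2 hodd (even_iff_two_dvd.2 h)),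
        zero_add]
    have hQe := Subgroup.eq_of_le_of_card_ge hQ hc.ge
    refine hns (isSolvable_of_cyclic_two Q ?_)
    rw [← hQe]
    exact isCyclic_of_surjective _ (M.subtype.subgroupMap_surjective (P : Subgroup ↥M))
  have hn : 2 < Nat.card Ω := by
    by_contra h
    have h1 : 1 < Nat.card (G ⧸ M) := Finite.one_lt_card (α := Ω)
    have h2 : M.index = 2 := by
      rw [Subgroup.index_eq_card]
      change ¬ 2 < Nat.card (G ⧸ M) at h
      omega
    haveI := Subgroup.normal_of_index_eq_two h2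
    rw [Subgroup.normalCore_eq_self] at hcore
    refine hns ?_
    have hG2 : Nat.card G = 2 ^ 1 * 3 ^ 0 := by
      rw [← Subgroup.card_mul_index M, h2, hcore, card_bot]; norm_num
    exact Cfsg.Agent.S0144.result 2 3 1 0 Nat.prime_two Nat.prime_three hG2
  -- double transitivity
  haveI hprim : IsPreprimitive G Ω :=
    (isCoatom_stabilizer_iff_preprimitive (G := G) a).1 (hst.symm ▸ hM)
  have h2t : IsMultiplyPretransitive G Ω 2 := by
    have hnp : ¬ (Nat.card Ω).Prime := fun hp =>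
      absurd ((hp.eq_two_or_odd').resolve_left (by omega)) (Nat.not_odd_iff_even.2 heven)
    exact ((CfsgLib.Char.CyclicBGroup.main (by omega) hnp A hA
      ⟨⟨fun x y => by
        obtain ⟨g, hg, hgx⟩ := hA_trans x
        obtain ⟨h, hh, hhy⟩ := hA_trans y
        exact ⟨⟨h * g⁻¹, mul_mem hh (inv_mem hg)⟩, by
          show (h * g⁻¹) • x = y
          rw [← hgx, mul_smul, inv_smul_smul, hhy]⟩⟩,
       fun x => (Subgroup.eq_bot_iff_forall _).2 fun g hg => Subtype.ext (hA_free g g.2 x hg)⟩).resolve_left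
      (not_not.2 hprim))
  have htwo : ∀ {x y x' y' : Ω}, x ≠ y → x' ≠ y' → ∃ g : G, g • x = x' ∧ g • y = y' :=
    fun hxy hxy' => (MulAction.is_two_pretransitive_iff.1 h2t) hxy hxy'
  exact stab_case hns A M hA a hst hA_free hA_trans hfix hAcard hGcard heven hn htwo

end CfsgLib.Perm.CycStab
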