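import Cfsg.Agent.Lib.Perm.CycStab.Prim
import Cfsg.Agent.Lib.Invol.Signalizer
import Cfsg.Agent.Lib.GW.PairGenerate
import Cfsg.Agent.Lib.Perm.Dickson.Minimal
import Cfsg.Agent.Lib.Perm.Dickson.TorusPSL

/-!
# A product of a cyclic group and a Z-group modulo the solvable radical

A non-solvable `G = A B` without non-trivial solvable normal subgroups, `A` cyclic and `B` a
Z-group, is `PGL₂(p)`.
-/

set_option autoImplicit false
set_option linter.style.haveILetI false
set_option linter.unusedSectionVars false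

namespace CfsgLib.Perm.CycStab

open Subgroup CfsgLib.Perm.Dickson

universe u

/-- No non-trivial solvable normal subgroup. -/
def NoSolv (G : Type u) [Group G] : Prop :=
  ∀ N : Subgroup G, N.Normal → Group.IsSolvable ↥N → N = ⊥

theorem isSolvable_of_injective {H K : Type*} [Group H] [Group K] {f : H →* K}
    (hf : Function.Injective f) (hK : Group.IsSolvable K) : Group.IsSolvable H := by
  haveI := hK
  exact solvable_of_solvable_injective hf

theorem isSolvable_of_surjective {H K : Type*} [Group H] [Group K] {f : H →* K}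
    (hf : Function.Surjective f) (hH : Group.IsSolvable H) : Group.IsSolvable K := by
  haveI := hH
  exact solvable_of_surjective hf

theorem exists_radical (G : Type u) [Group G] [Finite G] :
    ∃ R : Subgroup G, R.Normal ∧ Group.IsSolvable ↥R ∧
      ∀ N : Subgroup G, N.Normal → Group.IsSolvable ↥N → N ≤ R := by
  obtain ⟨R, ⟨hRn, hRs⟩, hmax⟩ := (Set.toFinite {N : Subgroup G | N.Normal ∧ Group.IsSolvable ↥N}).exists_maximal
    ⟨⊥, inferInstance, inferInstance⟩
  refine ⟨R, hRn, hRs, fun N hN hNs => ?_⟩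
  have hsup : Group.IsSolvable ↥(R ⊔ N) := CfsgLib.Invol.isSolvable_sup
    (by haveI := hRn; rw [normalizer_eq_top]; exact le_top) hRs hNs
  haveI := hRn
  haveI := hN
  exact le_sup_right.trans (hmax ⟨inferInstance, hsup⟩ le_sup_left)

/-- Preimages of solvable subgroups under maps with solvable kernel. -/
theorem isSolvable_comap {G H : Type*} [Group G] [Group H] (f : G →* H) (K : Subgroup H)
    (hk : Group.IsSolvable ↥f.ker) (hK : Group.IsSolvable ↥K) : Group.IsSolvable ↥(K.comap f) := by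
  haveI := hK
  haveI := hk
  have hle : f.ker ≤ K.comap f := fun x hx => by
    rw [mem_comap, MonoidHom.mem_ker.1 hx]; exact one_mem K
  refine solvable_of_ker_le_range (Subgroup.inclusion hle) (f.subgroupComap K) fun x hx => ?_
  refine ⟨⟨x, ?_⟩, Subtype.ext rfl⟩
  exact congrArg Subtype.val (MonoidHom.mem_ker.1 hx)

theorem noSolv_quot {G : Type u} [Group G] (R : Subgroup G) [R.Normal]
    (hRs : Group.IsSolvable ↥R) (hmax : ∀ N : Subgroup G, N.Normal → Group.IsSolvable ↥N → N ≤ R) :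
    NoSolv (G ⧸ R) := by
  intro N hN hNs
  have h := hmax (N.comap (QuotientGroup.mk' R)) (hN.comap _)
    (isSolvable_comap _ N (by rw [QuotientGroup.ker_mk']; exact hRs) hNs)
  rw [← le_bot_iff]
  intro x hx
  obtain ⟨x, rfl⟩ := QuotientGroup.mk'_surjective R x
  rw [mem_bot, QuotientGroup.mk'_apply, QuotientGroup.eq_one_iff]
  exact h hx

theorem noSolv_congr {G : Type u} {H : Type*} [Group G] [Group H] (e : G ≃* H) (h : NoSolv H) : NoSolv G := by
  intro N hN hNs
  have h1 := h (N.map e.toMonoidHom) (hN.map _ e.surjective)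
    (isSolvable_of_surjective (e.toMonoidHom.subgroupMap_surjective N) hNs)
  rwa [Subgroup.map_eq_bot_iff_of_injective _ e.injective] at h1

theorem noSolv_normal {G : Type u} [Group G] [Finite G] (h : NoSolv G) (N : Subgroup G) [N.Normal] :
    NoSolv ↥N := by
  obtain ⟨S, hSn, hSs, hmax⟩ := exists_radical ↥N
  haveI : S.Characteristic := characteristic_iff_map_le.2 fun φ =>
    hmax _ (hSn.map _ φ.surjective) (isSolvable_of_surjective (φ.toMonoidHom.subgroupMap_surjective S) hSs)
  have h1 := h (S.map N.subtype) inferInstance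
    (isSolvable_of_surjective (N.subtype.subgroupMap_surjective S) hSs)
  rw [Subgroup.map_eq_bot_iff_of_injective _ N.subtype_injective] at h1
  subst h1
  exact fun X hX hXs => le_bot_iff.1 (hmax X hX hXs)

/-! ### Facts on `PGL₂(p)` -/

section PGL

variable {p : ℕ} [Fact p.Prime]

theorem not_solvable_psl (hp : 3 < p) : ¬ Group.IsSolvable ↥(psl (ZMod p)) := by
  intro h
  obtain ⟨hs, hnc⟩ := psl_simple_noncomm (F := ZMod p) (by rw [Nat.card_zmod]; omega)
  haveI := hs
  haveI : Group.IsSolvable (S2P (ZMod p)) :=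
    isSolvable_of_injective (f := (pslEquiv (ZMod p)).toMonoidHom) (pslEquiv (ZMod p)).injective h
  exact hnc ⟨⟨fun a b => IsSimpleGroup.comm_iff_isSolvable.2 inferInstance a b⟩⟩

theorem eq_one_of_comm_psl (g : G2 (ZMod p)) (h : ∀ x ∈ psl (ZMod p), g * x = x * g) : g = 1 := by
  have ht := h _ (tr_mem_psl (1 : ZMod p))
  have hi := h _ (iv_neg_one_mem_psl (F := ZMod p))
  have h1 : g • (ip : P2 (ZMod p)) = ip := by
    have e : tr (1 : ZMod p) • (g • (ip : P2 (ZMod p))) = g • (ip : P2 (ZMod p)) := by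
      rw [← mul_smul, ← ht, mul_smul, tr_ip]
    rcases point_cases (g • (ip : P2 (ZMod p))) with hz | ⟨z, hz⟩
    · exact hz
    · rw [hz, tr_fp] at e
      exact absurd (fp_inj e) (by simp)
  have h2 : g • fp (0 : ZMod p) = fp 0 := by
    conv_lhs => rw [← iv_ip (-1 : (ZMod p)ˣ), ← mul_smul, hi, mul_smul, h1, iv_ip]
  obtain ⟨u, rfl⟩ := eq_di_of_fix_two h1 h2
  have e : tr ((u : ZMod p) * 1) * di u = tr 1 * di u := by rw [← di_tr, ht]
  have h3 := (trdi_inj e).1
  rw [mul_one] at h3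
  rw [show u = 1 from Units.ext h3, di_one]

theorem psl_index_two (hp : 3 < p) : (psl (ZMod p)).index = 2 := by
  rw [index_psl_eq, gcd_odd]
  rw [Nat.card_zmod]
  exact (Fact.out : p.Prime).odd_of_ne_two (by omega)

theorem pgl_normal (hp : 3 < p) (X : Subgroup (G2 (ZMod p))) [hX : X.Normal] :
    X = ⊥ ∨ psl (ZMod p) ≤ X := by
  obtain ⟨hs, -⟩ := psl_simple_noncomm (F := ZMod p) (by rw [Nat.card_zmod]; omega)
  haveI := hs
  haveI : IsSimpleGroup ↥(psl (ZMod p)) := by
    haveI : Nontrivial ↥(psl (ZMod p)) := (pslEquiv (ZMod p)).symm.toEquiv.nontrivial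
    exact IsSimpleGroup.isSimpleGroup_of_surjective (pslEquiv (ZMod p)).toMonoidHom
      (pslEquiv (ZMod p)).surjective
  rcases (inferInstance : (X.subgroupOf (psl (ZMod p))).Normal).eq_bot_or_eq_top with h | h
  · left
    rw [Subgroup.subgroupOf_eq_bot] at h
    refine (Subgroup.eq_bot_iff_forall _).2 fun g hg => eq_one_of_comm_psl g fun x hx => ?_
    exact Subgroup.commute_of_normal_of_disjoint X (psl (ZMod p)) hX (psl_normal _) h g x hg hx
  · exact Or.inr (Subgroup.subgroupOf_eq_top.1 h)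

theorem noSolv_pgl (hp : 3 < p) : NoSolv (G2 (ZMod p)) := by
  intro X hX hXs
  haveI := hX
  refine (pgl_normal hp X).resolve_right fun hle => not_solvable_psl hp ?_
  exact isSolvable_of_injective (Subgroup.inclusion_injective hle) hXs

theorem not_solvable_pgl (hp : 3 < p) : ¬ Group.IsSolvable (G2 (ZMod p)) := fun h =>
  not_solvable_psl hp (isSolvable_of_injective (psl (ZMod p)).subtype_injective h)

theorem card_pgl : Nat.card (G2 (ZMod p)) = (p + 1) * (p * (p - 1)) := by
  rw [card_G2, Nat.card_zmod]; ring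

theorem two_mul_card_psl (hp : 3 < p) : 2 * Nat.card ↥(psl (ZMod p)) = (p + 1) * (p * (p - 1)) := by
  have h := (psl (ZMod p)).card_mul_index
  rw [psl_index_two hp, card_pgl] at h
  omega

theorem card_mulAut_psl :
    Nat.card (MulAut (Matrix.ProjectiveSpecialLinearGroup (Fin 2) (ZMod p))) ≤
      Nat.card (G2 (ZMod p)) := by
  haveI := finite_G2 (F := ZMod p)
  refine Nat.card_le_card_of_surjective (CfsgLib.GW.pglAct (F := ZMod p)) fun β => ?_
  obtain ⟨σ, g, rfl⟩ := CfsgLib.GW.exists_ind β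
  obtain rfl : σ = 1 := Subsingleton.elim _ _
  exact ⟨Matrix.ProjGenLinGroup.mk g, CfsgLib.GW.pglAct_mk g⟩

end PGL

/-! ### The reduction -/

theorem card_le_mul {G : Type u} [Group G] [Finite G] (A B : Subgroup G)
    (hAB : ∀ g : G, ∃ a ∈ A, ∃ b ∈ B, g = a * b) : Nat.card G ≤ Nat.card A * Nat.card B := by
  rw [← Nat.card_prod]
  refine Nat.card_le_card_of_surjective (fun x : ↥A × ↥B => (x.1 : G) * x.2) fun g => ?_
  obtain ⟨a, ha, b, hb, rfl⟩ := hAB g
  exact ⟨(⟨a, ha⟩, ⟨b, hb⟩), rfl⟩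

theorem lcm_mul_two_le {x y : ℕ} (hx : 2 ∣ x) (hy : 2 ∣ y) (h0 : 0 < x) :
    Nat.lcm x y * 2 ≤ x * y := by
  rw [← Nat.gcd_mul_lcm x y, mul_comm]
  exact Nat.mul_le_mul_right _ (Nat.le_of_dvd (Nat.gcd_pos_of_pos_left _ h0) (Nat.dvd_gcd hx hy))

/-- An element killed by the image orders in two quotients meeting trivially. -/
theorem orderOf_dvd_lcm {G H₁ H₂ : Type*} [Group G] [Group H₁] [Group H₂]
    (f₁ : G →* H₁) (f₂ : G →* H₂) (hinj : ∀ g, f₁ g = 1 → f₂ g = 1 → g = 1)
    (S : Subgroup G) {g : G} (hg : g ∈ S) :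
    orderOf g ∣ Nat.lcm (Nat.card (S.map f₁)) (Nat.card (S.map f₂)) := by
  refine orderOf_dvd_of_pow_eq_one (hinj _ ?_ ?_)
  · rw [map_pow]
    refine orderOf_dvd_iff_pow_eq_one.1 ((?_ : orderOf (f₁ g) ∣ _).trans (Nat.dvd_lcm_left _ _))
    rw [← Subgroup.orderOf_mk (f₁ g) (mem_map_of_mem f₁ hg)]
    exact orderOf_dvd_natCard _
  · rw [map_pow]
    refine orderOf_dvd_iff_pow_eq_one.1 ((?_ : orderOf (f₂ g) ∣ _).trans (Nat.dvd_lcm_right _ _))
    rw [← Subgroup.orderOf_mk (f₂ g) (mem_map_of_mem f₂ hg)]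
    exact orderOf_dvd_natCard _

/-- The conclusion. -/
def IsPGLProduct (G : Type u) [Group G] (A B : Subgroup G) : Prop :=
  ∃ p : ℕ, p.Prime ∧ 3 < p ∧ Nat.card G = (p + 1) * (p * (p - 1)) ∧ Nat.card A = p + 1 ∧
    Nat.card B = p * (p - 1) ∧ Nonempty (G ≃* Matrix.ProjGenLinGroup (Fin 2) (ZMod p))

theorem reduced_aux (n : ℕ) : ∀ (G : Type u) [Group G] [Finite G], Nat.card G = n →
    ¬ Group.IsSolvable G → NoSolv G → ∀ A B : Subgroup G, IsCyclic ↥A → IsZGroup ↥B →
    (∀ g : G, ∃ a ∈ A, ∃ b ∈ B, g = a * b) → IsPGLProduct G A B := by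
  induction n using Nat.strong_induction_on with
  | _ n ih => ?_
  intro G _ _ hn hns hR A B hA hB hAB
  subst hn
  -- the induction hypothesis on images
  have step : ∀ (X : Type u) [Group X] [Finite X] (Q : Type u) [Group Q] [Finite Q] (f : X →* Q),
      Function.Surjective f → Nat.card Q < Nat.card G → ¬ Group.IsSolvable Q → NoSolv Q →
      ∀ A' B' : Subgroup X, IsCyclic ↥A' → IsZGroup ↥B' →
      (∀ g : X, ∃ a ∈ A', ∃ b ∈ B', g = a * b) → IsPGLProduct Q (A'.map f) (B'.map f) := by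
    intro X _ _ Q _ _ f hf hlt hQs hQR A' B' hA' hB' hAB'
    refine ih _ hlt Q rfl hQs hQR _ _ ?_ ?_ fun q => ?_
    · haveI := hA'
      exact isCyclic_of_surjective _ (f.subgroupMap_surjective A')
    · haveI := hB'
      exact IsZGroup.of_surjective (f.subgroupMap_surjective B')
    · obtain ⟨x, rfl⟩ := hf q
      obtain ⟨a, ha, b, hb, rfl⟩ := hAB' x
      exact ⟨_, mem_map_of_mem f ha, _, mem_map_of_mem f hb, map_mul f a b⟩
  haveI := hB
  have hBtop : B ≠ ⊤ := by
    rintro rfl
    exact hns (isSolvable_of_surjective (f := (⊤ : Subgroup G).subtype) (fun g => ⟨⟨g, mem_top g⟩, rfl⟩)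
      inferInstance)
  obtain ⟨M, hM, hBM⟩ := (eq_top_or_exists_le_coatom B).resolve_left hBtop
  by_cases hcore : M.normalCore = ⊥
  · exact primitive_case hns A B M hA hAB hM hBM hcore
  exfalso
  -- a minimal normal subgroup inside the core
  obtain ⟨N, ⟨hNn, hN0, hNK⟩, hNmin⟩ :=
    (Set.toFinite {X : Subgroup G | X.Normal ∧ X ≠ ⊥ ∧ X ≤ M.normalCore}).exists_minimal
      ⟨M.normalCore, inferInstance, hcore, le_rfl⟩
  haveI := hNn
  have hNM : N ≤ M := hNK.trans M.normalCore_le
  have hNs : ¬ Group.IsSolvable ↥N := fun h => hN0 (hR N hNn h)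
  have hNperf : ⁅N, N⁆ = N := by
    refine le_antisymm (Subgroup.commutator_le_left N N) (hNmin ⟨inferInstance, fun h => ?_,
      (Subgroup.commutator_le_left N N).trans hNK⟩ (Subgroup.commutator_le_left N N))
    refine hNs ?_
    letI : CommGroup ↥N := { (inferInstance : Group ↥N) with
      mul_comm := fun x y => Subtype.ext (mem_centralizer_iff.1
        ((Subgroup.commutator_eq_bot_iff_le_centralizer.1 h) y.2) _ x.2) }
    infer_instance
  have hNR : NoSolv ↥N := noSolv_normal hR N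
  -- induction on `M`
  have hMs : ¬ Group.IsSolvable ↥M := fun h =>
    hNs (isSolvable_of_injective (Subgroup.inclusion_injective hNM) h)
  have hMlt : Nat.card ↥M < Nat.card G := Nat.lt_of_le_of_ne (Subgroup.card_le_card_group M)
    fun e => hM.1 (Subgroup.eq_top_of_card_eq M e)
  obtain ⟨Rm, hRmn, hRms, hRmax⟩ := exists_radical ↥M
  haveI := hRmn
  have hMR : ¬ Group.IsSolvable (↥M ⧸ Rm) := fun h => hMs (by
    haveI := h
    haveI := hRms
    exact solvable_of_ker_le_range Rm.subtype (QuotientGroup.mk' Rm)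
      (by rw [QuotientGroup.ker_mk', Subgroup.range_subtype]))
  haveI := hA
  obtain ⟨p, hp, hp3, -, -, -, ⟨eM⟩⟩ := step ↥M (↥M ⧸ Rm) (QuotientGroup.mk' Rm)
    (QuotientGroup.mk'_surjective Rm)
    ((Nat.card_le_card_of_surjective _ (QuotientGroup.mk'_surjective Rm)).trans_lt hMlt)
    hMR (noSolv_quot Rm hRms hRmax) (A.subgroupOf M) (B.subgroupOf M)
    (isCyclic_of_injective ((M.subtype.comp (A.subgroupOf M).subtype).codRestrict A fun x => x.2)
      fun x y e => Subtype.ext (Subtype.ext (congrArg (fun z : ↥A => (z : G)) e)))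
    (IsZGroup.of_injective (f := (Subgroup.subgroupOfEquivOfLe hBM).toMonoidHom)
      (Subgroup.subgroupOfEquivOfLe hBM).injective)
    (fun m => by
      obtain ⟨a, ha, b, hb, hm⟩ := hAB m
      have haM : a ∈ M := by
        rw [show a = (m : G) * b⁻¹ by rw [hm, mul_inv_cancel_right]]
        exact mul_mem m.2 (inv_mem (hBM hb))
      exact ⟨⟨a, haM⟩, ha, ⟨b, hBM hb⟩, hb, Subtype.ext hm⟩)
  haveI : Fact p.Prime := ⟨hp⟩
  haveI : Finite (G2 (ZMod p)) := finite_G2
  let φ : ↥M →* G2 (ZMod p) := eM.toMonoidHom.comp (QuotientGroup.mk' Rm)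
  have hφs : Function.Surjective φ := eM.surjective.comp (QuotientGroup.mk'_surjective Rm)
  have hφk : ∀ {m : ↥M}, φ m = 1 → m ∈ Rm := fun {m} h => by
    rw [← QuotientGroup.eq_one_iff]
    exact eM.injective (h.trans (map_one eM).symm)
  -- `N ≅ PSL₂(p)`
  let ι : ↥N →* G2 (ZMod p) := φ.comp (Subgroup.inclusion hNM)
  have hι : Function.Injective ι := by
    rw [← MonoidHom.ker_eq_bot_iff]
    refine hNR _ inferInstance (isSolvable_of_injective (f :=
      (((Subgroup.inclusion hNM).comp ι.ker.subtype).codRestrict Rm fun x => hφk x.2))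
      (fun x y e => Subtype.ext (Subgroup.inclusion_injective hNM
        (congrArg (fun z : ↥Rm => (z : ↥M)) e))) hRms)
  have hιn : ι.range.Normal := by
    rw [MonoidHom.range_comp, Subgroup.inclusion_range]
    exact Subgroup.Normal.map inferInstance _ hφs
  have hιr : ι.range = psl (ZMod p) := by
    refine le_antisymm ?_ ((pgl_normal hp3 ι.range).resolve_left fun h => hN0 ?_)
    · rintro _ ⟨x, rfl⟩
      have h1 : (x : G) ∈ ⁅N, N⁆ := hNperf.symm ▸ x.2
      rw [← map_subtype_commutator N] at h1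
      obtain ⟨x', hx', e⟩ := h1
      rw [← Subtype.ext e]
      have hle : commutator ↥N ≤ (psl (ZMod p)).comap ι := by
        rw [_root_.commutator_def, Subgroup.commutator_le]
        intro g _ h _
        have hm := fun a b : G2 (ZMod p) =>
          Subgroup.mul_mem_iff_of_index_two (a := a) (b := b) (psl_index_two hp3)
        rw [mem_comap, map_commutatorElement, commutatorElement_def, hm, hm, hm, inv_mem_iff,
          inv_mem_iff]
        tauto
      exact hle hx'
    · rw [← Subgroup.card_eq_one, ← Nat.card_congr (MonoidHom.ofInjective hι).toEquiv.symm, h,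
        card_bot]
  let eN : ↥N ≃* Matrix.ProjectiveSpecialLinearGroup (Fin 2) (ZMod p) :=
    ((MonoidHom.ofInjective hι).trans (MulEquiv.subgroupCongr hιr)).trans (pslEquiv (ZMod p)).symm
  have hAut : Nat.card (MulAut ↥N) ≤ Nat.card (G2 (ZMod p)) :=
    (Nat.card_congr (MulAut.congr eN).toEquiv).trans_le card_mulAut_psl
  let c : G →* MulAut ↥N := MulAut.conjNormal
  have hcker : ∀ {g : G}, g ∈ c.ker → ∀ x ∈ N, g * x = x * g := fun {g} hg x hx => by
    have := congrArg (fun β : MulAut ↥N => ((β ⟨x, hx⟩ : ↥N) : G)) (MonoidHom.mem_ker.1 hg)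
    simp only [c, MulAut.conjNormal_apply, MulAut.one_apply] at this
    exact mul_inv_eq_iff_eq_mul.1 this
  let cM : ↥M →* MulAut ↥N := c.comp M.subtype
  have hker : cM.ker ≤ Rm := fun m hm => hφk (eq_one_of_comm_psl _ fun y hy => by
    rw [← hιr] at hy
    obtain ⟨x, rfl⟩ := hy
    show φ m * φ (Subgroup.inclusion hNM x) = φ (Subgroup.inclusion hNM x) * φ m
    rw [← map_mul, ← map_mul]
    exact congrArg φ (Subtype.ext (hcker (g := (m : G)) hm x x.2)))
  haveI : Finite (MulAut ↥N) := Finite.of_injective _ DFunLike.coe_injective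
  have hindex : Nat.card (G2 (ZMod p)) = Rm.index := by
    rw [Subgroup.index_eq_card, Nat.card_congr eM.toEquiv]
  have hrange : cM.range = ⊤ := by
    refine Subgroup.eq_top_of_le_card _ ?_
    calc Nat.card (MulAut ↥N) ≤ Nat.card (G2 (ZMod p)) := hAut
      _ = Rm.index := hindex
      _ ≤ cM.ker.index := Nat.le_of_dvd (Nat.pos_of_ne_zero Subgroup.index_ne_zero_of_finite)
          (Subgroup.index_dvd_of_le hker)
      _ = Nat.card ↥cM.range := Subgroup.index_ker cM
  have hker' : cM.ker = Rm := by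
    refine Subgroup.eq_of_le_of_card_ge hker ?_
    have h1 := cM.ker.card_mul_index
    have h2 := Rm.card_mul_index
    rw [Subgroup.index_ker cM, hrange, Subgroup.card_top] at h1
    rw [← hindex] at h2
    have h3 : 0 < Nat.card (G2 (ZMod p)) := Nat.card_pos
    refine Nat.le_of_mul_le_mul_right ?_ h3
    calc Nat.card ↥Rm * Nat.card (G2 (ZMod p)) = Nat.card ↥cM.ker * Nat.card (MulAut ↥N) := by
          rw [h1, h2]
      _ ≤ Nat.card ↥cM.ker * Nat.card (G2 (ZMod p)) := Nat.mul_le_mul_left _ hAut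
  have hcs : Function.Surjective c := fun β => by
    obtain ⟨m, hm⟩ := (hrange ▸ mem_top β : β ∈ cM.range)
    exact ⟨m, hm⟩
  set C := c.ker with hC
  have hCn : C.Normal := inferInstance
  have hC0 : C ≠ ⊥ := by
    intro h0
    refine hM.1 (eq_top_iff.2 fun g _ => ?_)
    obtain ⟨m, hm⟩ := (hrange ▸ mem_top (c g) : c g ∈ cM.range)
    have : g⁻¹ * (m : G) ∈ C := by
      rw [hC, MonoidHom.mem_ker, map_mul, map_inv]
      exact inv_mul_eq_one.2 hm.symm
    rw [h0, mem_bot, inv_mul_eq_one] at this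
    rw [this]
    exact m.2
  -- `G / C ≅ PGL₂(p)`
  let eC : MulAut ↥N ≃* G2 (ZMod p) :=
    (((QuotientGroup.quotientKerEquivOfSurjective cM (MonoidHom.range_eq_top.1 hrange)).symm.trans
      (QuotientGroup.quotientMulEquivOfEq hker')).trans eM)
  have hXeq : Nat.card (MulAut ↥N) = (p + 1) * (p * (p - 1)) := by
    rw [Nat.card_congr eC.toEquiv, card_pgl]
  have hCcard : Nat.card G = Nat.card ↥C * Nat.card (MulAut ↥N) := by
    rw [← C.card_mul_index, hC, Subgroup.index_ker c, MonoidHom.range_eq_top.2 hcs,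
      Subgroup.card_top]
  have hC1 : 1 < Nat.card ↥C := (Subgroup.one_lt_card_iff_ne_bot C).2 hC0
  obtain ⟨p₁, -, -, hc1, hA1, hB1, -⟩ := step G (MulAut ↥N) c hcs
    (by rw [hCcard]; exact lt_mul_of_one_lt_left Nat.card_pos hC1)
    (fun h => not_solvable_pgl hp3 (isSolvable_of_surjective (f := eC.toMonoidHom) eC.surjective h))
    (noSolv_congr eC (noSolv_pgl hp3)) A B hA hB hAB
  -- `G / R₁`
  have hCN : ∀ g ∈ C, g ∈ N → g = 1 := by
    intro g hg hgN
    have hcs' : Group.IsSolvable ↥(Subgroup.center ↥N) := by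
      letI : CommGroup ↥(Subgroup.center ↥N) := { (inferInstance : Group ↥(Subgroup.center ↥N)) with
        mul_comm := fun x y => Subtype.ext (Subgroup.mem_center_iff.1 y.2 x) }
      infer_instance
    have h1 : Subgroup.center ↥N = ⊥ := hNR _ inferInstance hcs'
    have h2 : (⟨g, hgN⟩ : ↥N) ∈ Subgroup.center ↥N :=
      mem_center_iff.2 fun y => Subtype.ext (hcker hg y y.2).symm
    rw [h1, mem_bot] at h2
    exact congrArg Subtype.val h2
  have hCns : ¬ Group.IsSolvable ↥C := fun h => hC0 (hR C hCn h)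
  have hGN : ¬ Group.IsSolvable (G ⧸ N) := fun h => hCns (isSolvable_of_injective
    (f := (QuotientGroup.mk' N).comp C.subtype) ((injective_iff_map_eq_one _).2 fun x hx =>
      Subtype.ext (hCN x x.2 ((QuotientGroup.eq_one_iff _).1 hx))) h)
  obtain ⟨Rb, hRbn, hRbs, hRbmax⟩ := exists_radical (G ⧸ N)
  haveI := hRbn
  let f : G →* (G ⧸ N) ⧸ Rb := (QuotientGroup.mk' Rb).comp (QuotientGroup.mk' N)
  have hfs : Function.Surjective f :=
    (QuotientGroup.mk'_surjective Rb).comp (QuotientGroup.mk'_surjective N)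
  have hQns : ¬ Group.IsSolvable ((G ⧸ N) ⧸ Rb) := fun h => hGN (by
    haveI := h
    haveI := hRbs
    exact solvable_of_ker_le_range Rb.subtype (QuotientGroup.mk' Rb)
      (by rw [QuotientGroup.ker_mk', Subgroup.range_subtype]))
  have hN1 : 1 < Nat.card ↥N := (Subgroup.one_lt_card_iff_ne_bot N).2 hN0
  obtain ⟨p', hp', hp3', hc2, hA2, hB2, ⟨e2⟩⟩ := step G ((G ⧸ N) ⧸ Rb) f hfs
    (calc Nat.card ((G ⧸ N) ⧸ Rb) ≤ Nat.card (G ⧸ N) :=
          Nat.card_le_card_of_surjective _ (QuotientGroup.mk'_surjective Rb)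
      _ < Nat.card G := by
          rw [N.card_eq_card_quotient_mul_card_subgroup]
          exact lt_mul_of_one_lt_right Nat.card_pos hN1)
    hQns (noSolv_quot Rb hRbs hRbmax) A B hA hB hAB
  have hinj : ∀ g : G, c g = 1 → f g = 1 → g = 1 := by
    have hsol : Group.IsSolvable ↥(C ⊓ f.ker) := isSolvable_of_injective
      (f := ((QuotientGroup.mk' N).comp (C ⊓ f.ker).subtype).codRestrict Rb
        fun x => (QuotientGroup.eq_one_iff _).1 (MonoidHom.mem_ker.1 x.2.2))
      ((injective_iff_map_eq_one _).2 fun x hx =>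
        Subtype.ext (hCN x x.2.1 ((QuotientGroup.eq_one_iff _).1 (congrArg Subtype.val hx)))) hRbs
    have h0 := hR (C ⊓ f.ker) inferInstance hsol
    intro g hg hg'
    have : g ∈ C ⊓ f.ker := mem_inf.2 ⟨hg, hg'⟩
    rwa [h0, mem_bot] at this
  -- the orders
  have hAle : Nat.card A ≤ Nat.lcm (p₁ + 1) (p' + 1) := by
    obtain ⟨a, ha⟩ := IsCyclic.exists_ofOrder_eq_natCard (α := ↥A)
    refine Nat.le_of_dvd (Nat.lcm_pos (Nat.succ_pos _) (Nat.succ_pos _)) ?_
    rw [← ha, ← orderOf_coe, ← hA1, ← hA2]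
    exact orderOf_dvd_lcm c f hinj A a.2
  have hpos1 : 0 < p₁ * (p₁ - 1) := by rw [← hB1]; exact Nat.card_pos
  have hpos2 : 0 < p' * (p' - 1) := by rw [← hB2]; exact Nat.card_pos
  have hBle : Nat.card B ≤ Nat.lcm (p₁ * (p₁ - 1)) (p' * (p' - 1)) := by
    refine Nat.le_of_dvd (Nat.lcm_pos hpos1 hpos2) ?_
    rw [← IsZGroup.exponent_eq_card, ← hB1, ← hB2]
    refine Monoid.exponent_dvd.2 fun b => ?_
    rw [← orderOf_coe]
    exact orderOf_dvd_lcm c f hinj B b.2
  have hGle := card_le_mul A B hAB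
  -- `C` is large
  have hY : (p' + 1) * (p' * (p' - 1)) ≤ 2 * Nat.card ↥C := by
    haveI : Fact p'.Prime := ⟨hp'⟩
    haveI : Finite (G2 (ZMod p')) := finite_G2
    rw [← two_mul_card_psl hp3']
    refine Nat.mul_le_mul_left 2 ?_
    let ψ : G →* G2 (ZMod p') := e2.toMonoidHom.comp f
    haveI : (C.map ψ).Normal := hCn.map _ (e2.surjective.comp hfs)
    have hle := (pgl_normal hp3' (C.map ψ)).resolve_left fun h => hC0 <| by
      refine (Subgroup.eq_bot_iff_forall _).2 fun g hg => hinj g hg ?_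
      have := mem_map_of_mem ψ hg
      rw [h, mem_bot] at this
      exact e2.injective (this.trans (map_one e2).symm)
    exact (Subgroup.card_le_of_le hle).trans (Nat.card_le_card_of_surjective _ (ψ.subgroupMap_surjective C))
  have hX : (p₁ + 1) * (p₁ * (p₁ - 1)) = Nat.card (MulAut ↥N) := hc1.symm
  have hodd : ∀ {q : ℕ}, 2 ∣ q * (q - 1) := fun {q} => by
    rcases Nat.even_or_odd q with h | h
    · exact dvd_mul_of_dvd_left h.two_dvd _
    · exact dvd_mul_of_dvd_right (by obtain ⟨k, rfl⟩ := h; exact ⟨k, by omega⟩) _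
  have he1 : 2 ∣ p₁ + 1 := by
    have h : (p₁ + 1) * (p₁ * (p₁ - 1)) = (p + 1) * (p * (p - 1)) := by rw [hX, hXeq]
    have key : ∀ {x y : ℕ}, 1 < x → x < y → (x + 1) * (x * (x - 1)) < (y + 1) * (y * (y - 1)) :=
      fun {x y} h1 h2 => Nat.mul_lt_mul_of_lt_of_le (by omega) (Nat.mul_le_mul h2.le (by omega))
        (Nat.mul_pos (by omega) (by omega))
    have : p₁ = p := by
      rcases lt_trichotomy p₁ p with h' | h' | h'
      · refine absurd h (key ?_ h').ne
        by_contra hc
        interval_cases p₁ <;> simp at hpos1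
      · exact h'
      · exact absurd h.symm (key (by omega) h').ne
    subst this
    obtain ⟨k, hk⟩ := hp.odd_of_ne_two (by omega)
    exact ⟨k + 1, by omega⟩
  have he2 : 2 ∣ p' + 1 := by
    obtain ⟨k, hk⟩ := hp'.odd_of_ne_two (by omega)
    exact ⟨k + 1, by omega⟩
  have hl1 := lcm_mul_two_le he1 he2 (Nat.succ_pos _)
  have hl2 := lcm_mul_two_le (hodd (q := p₁)) (hodd (q := p')) hpos1
  have hXpos : 0 < Nat.card (MulAut ↥N) := Nat.card_pos
  have hYpos : 0 < (p' + 1) * (p' * (p' - 1)) := Nat.mul_pos (Nat.succ_pos _) hpos2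
  have := Nat.mul_pos hXpos hYpos
  have h4 : 4 * (Nat.card A * Nat.card B) ≤
      Nat.card (MulAut ↥N) * ((p' + 1) * (p' * (p' - 1))) := by
    calc 4 * (Nat.card A * Nat.card B) = (Nat.card A * 2) * (Nat.card B * 2) := by ring
      _ ≤ ((p₁ + 1) * (p' + 1)) * ((p₁ * (p₁ - 1)) * (p' * (p' - 1))) :=
          Nat.mul_le_mul ((Nat.mul_le_mul_right 2 hAle).trans hl1)
            ((Nat.mul_le_mul_right 2 hBle).trans hl2)
      _ = _ := by rw [← hX]; ring
  have h5 : Nat.card (MulAut ↥N) * ((p' + 1) * (p' * (p' - 1))) ≤ 2 * Nat.card G := by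
    calc Nat.card (MulAut ↥N) * ((p' + 1) * (p' * (p' - 1)))
        ≤ Nat.card (MulAut ↥N) * (2 * Nat.card ↥C) := Nat.mul_le_mul_left _ hY
      _ = 2 * Nat.card G := by rw [hCcard]; ring
  omega

/-- A product of a cyclic group and a Z-group with trivial solvable radical is `PGL₂(p)`. -/
theorem reduced {G : Type u} [Group G] [Finite G] (hns : ¬ Group.IsSolvable G) (hR : NoSolv G)
    (A B : Subgroup G) (hA : IsCyclic ↥A) (hB : IsZGroup ↥B)
    (hAB : ∀ g : G, ∃ a ∈ A, ∃ b ∈ B, g = a * b) : IsPGLProduct G A B :=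
  reduced_aux _ G rfl hns hR A B hA hB hAB

end CfsgLib.Perm.CycStab
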