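import Mathlib

/-!
# A cyclic group of units of order at least `(M - 1)/2`
-/

set_option autoImplicit false

namespace CfsgLib.Perm.CycStab

/-- If `M = 2j + 1 > 1` and a unit modulo `M` has order divisible by `j`, then `M` is prime. -/
theorem prime_of_half {M j : ℕ} (hM : 1 < M) (hMj : M = 2 * j + 1) (u : (ZMod M)ˣ)
    (hj : j ∣ orderOf u) : M.Prime := by
  haveI : NeZero M := ⟨by omega⟩
  set p := M.minFac
  have hp : p.Prime := Nat.minFac_prime (by omega)
  haveI := Fact.mk hp
  have hpM : p ∣ M := Nat.minFac_dvd M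
  have hp2 : p ≠ 2 := by
    intro h
    rw [h] at hpM
    omega
  obtain ⟨k, w, hpw, hMw⟩ := Nat.exists_eq_pow_mul_and_not_dvd (n := M) (by omega) p hp.ne_one
  have hk : 1 ≤ k := by
    rcases Nat.eq_zero_or_pos k with rfl | h
    · rw [pow_zero, one_mul] at hMw
      exact absurd (hMw ▸ hpM) hpw
    · exact h
  have hjpos : 0 < j := by omega
  have hcard : orderOf u ∣ M.totient := by
    rw [← ZMod.card_units_eq_totient M]
    exact orderOf_dvd_card
  by_cases hw : w = 1
  · subst hw
    rw [mul_one] at hMw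
    by_contra hnp
    have hk2 : 2 ≤ k := by
      by_contra h
      have : k = 1 := by omega
      rw [this, pow_one] at hMw
      exact hnp (hMw ▸ hp)
    have h1 : j ∣ p ^ (k - 1) * (p - 1) := by
      rw [← Nat.totient_prime_pow hp (by omega), ← hMw]
      exact hj.trans hcard
    have hcop : Nat.Coprime j (p ^ (k - 1)) := by
      refine Nat.Coprime.pow_right _ (Nat.Coprime.symm (hp.coprime_iff_not_dvd.2 fun h => ?_))
      have h2 : p ∣ 2 * j + 1 := hMj ▸ hpM
      exact hp.not_dvd_one ((Nat.dvd_add_right (dvd_mul_of_dvd_right h 2)).1 h2)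
    have h2 := Nat.le_of_dvd (by have := hp.two_le; omega) (hcop.dvd_of_dvd_mul_left h1)
    have h3 : p * p ≤ M := by
      rw [hMw, ← pow_two]
      exact Nat.pow_le_pow_right hp.pos hk2
    have h4 : 3 * p ≤ p * p := Nat.mul_le_mul_right p (by have := hp.two_le; omega)
    omega
  · exfalso
    set a := p ^ k
    have hcop : Nat.Coprime a w :=
      Nat.Coprime.pow_left _ (hp.coprime_iff_not_dvd.2 hpw)
    have ha : 2 < a := by
      have := hp.two_le
      have := Nat.le_self_pow (n := k) (by omega) p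
      omega
    have hwd : w ∣ M := ⟨a, by rw [hMw]; ring⟩
    have hw2 : 2 < w := by
      have hw0 : 0 < w := Nat.pos_of_ne_zero fun h => by simp [h] at hMw; omega
      have : w ≠ 2 := fun h => by
        rw [h] at hwd
        omega
      omega
    set L := Nat.lcm a.totient w.totient
    have hu : orderOf u ∣ L := by
      refine orderOf_dvd_of_pow_eq_one ?_
      have had : a ∣ M := ⟨w, hMw⟩
      haveI : NeZero a := ⟨by omega⟩
      haveI : NeZero w := ⟨by omega⟩
      have key : ∀ d : ℕ, ∀ hd : d ∣ M, d.totient ∣ L →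
          ((((u ^ L : (ZMod M)ˣ) : ZMod M).val : ℕ) : ZMod d) = 1 := by
        intro d hd hL
        have : Units.map (ZMod.castHom hd (ZMod d)).toMonoidHom (u ^ L) = 1 := by
          rw [map_pow]
          obtain ⟨c, hc⟩ := hL
          rw [hc, pow_mul, ZMod.pow_totient, one_pow]
        have h := congrArg (fun x : (ZMod d)ˣ => (x : ZMod d)) this
        rw [Units.coe_map, Units.val_one] at h
        rw [← h]
        show _ = ZMod.castHom hd (ZMod d) ((u ^ L : (ZMod M)ˣ) : ZMod M)
        rw [← map_natCast (ZMod.castHom hd (ZMod d)), ZMod.natCast_zmod_val]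
      have h1 := key a had (Nat.dvd_lcm_left _ _)
      have h2 := key w hwd (Nat.dvd_lcm_right _ _)
      refine Units.ext ?_
      rw [Units.val_one, ← ZMod.natCast_zmod_val ((u ^ L : (ZMod M)ˣ) : ZMod M), ← Nat.cast_one,
        ZMod.natCast_eq_natCast_iff]
      rw [← Nat.cast_one, ZMod.natCast_eq_natCast_iff] at h1 h2
      have := (Nat.modEq_and_modEq_iff_modEq_mul hcop).1 ⟨h1, h2⟩
      rwa [← hMw] at this
    have hLpos : 0 < L := Nat.lcm_pos (Nat.totient_pos.2 (by omega)) (Nat.totient_pos.2 (by omega))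
    have h2L : 2 * L ≤ a.totient * w.totient := by
      rw [← Nat.gcd_mul_lcm a.totient w.totient]
      exact Nat.mul_le_mul_right _ (Nat.le_of_dvd
        (Nat.gcd_pos_of_pos_left _ (Nat.totient_pos.2 (by omega)))
        (Nat.dvd_gcd (Nat.totient_even ha).two_dvd (Nat.totient_even hw2).two_dvd))
    have hjL : j ≤ L := Nat.le_of_dvd hLpos (hj.trans hu)
    have h3 : a.totient * w.totient + a + w ≤ M + 1 := by
      have h5 := Nat.totient_lt a (by omega)
      have h6 := Nat.totient_lt w (by omega)
      obtain ⟨a', ha'⟩ : ∃ a', a = a' + 1 := ⟨a - 1, by omega⟩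
      obtain ⟨w', hw'⟩ : ∃ w', w = w' + 1 := ⟨w - 1, by omega⟩
      rw [ha'] at h5 hMw ⊢
      rw [hw'] at h6 hMw ⊢
      have := Nat.mul_le_mul (Nat.lt_succ_iff.1 h5) (Nat.lt_succ_iff.1 h6)
      rw [hMw]
      nlinarith
    omega

end CfsgLib.Perm.CycStab
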