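import Cfsg.Agent.Lib.Perm.CycStab.Free

/-!
# The conjugates of the regular cyclic subgroup

When the involution of `D` fixes `P + 1 > 2` points, `|A ∩ A^x| > P + 1` for `x ∈ C(z)` if `P ≥ 5`,
so `C(z) = N(A)`; counting the orbits of `A` on `G / N(A)` gives a contradiction.
-/

set_option autoImplicit false
set_option linter.unusedSectionVars false

namespace CfsgLib.Perm.CycStab

open Subgroup MulAction

universe u

variable {G Ω : Type u} [Group G] [Finite G] [MulAction G Ω] [Fintype Ω] [DecidableEq Ω]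

namespace Setting

variable (S : Setting G Ω) {b : Ω} {z t : G} {P j : ℕ}

include S in
theorem A_comm {g h : G} (hg : g ∈ S.A) (hh : h ∈ S.A) : g * h = h * g := by
  haveI := S.A_cyc
  letI := IsCyclic.commGroup (α := ↥S.A)
  exact congrArg Subtype.val (mul_comm (⟨g, hg⟩ : ↥S.A) ⟨h, hh⟩)

include S in
theorem card_fixed_dvd (hb : b ≠ S.a) (h : Facts S b z t P j) {y : G} (hy1 : y ≠ 1) {x : Ω}
    (hx : y • x = x) :
    Nat.card ↥(fixedPoints (zpowers y) Ω) = 1 ∨ Nat.card ↥(fixedPoints (zpowers y) Ω) ∣ P + 1 := by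
  classical
  by_cases hone : ∀ x' ∈ fixedPoints (zpowers y) Ω, x' = x
  · left
    refine Nat.card_eq_one_iff_unique.2 ⟨⟨fun p q => Subtype.ext ((hone p p.2).trans (hone q q.2).symm)⟩,
      ⟨⟨x, ?_⟩⟩⟩
    rintro ⟨e, he⟩
    obtain ⟨i, rfl⟩ := mem_zpowers_iff.1 he
    exact MulAction.mem_stabilizer_iff.1 ((stabilizer G x).zpow_mem hx i)
  · right
    push Not at hone
    obtain ⟨x', hx', hne⟩ := hone
    obtain ⟨g, hgx, hgy⟩ := S.two (Ne.symm hne) hb.symm
    set d := g * y * g⁻¹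
    have hd : d ∈ pt2 G Ω S.a b := mem_pt2.2
      ⟨by rw [mul_smul, mul_smul, inv_smul_eq_iff.2 hgx.symm, hx, hgx],
       by rw [mul_smul, mul_smul, inv_smul_eq_iff.2 hgy.symm,
          show y • x' = x' from hx' ⟨y, mem_zpowers y⟩, hgy]⟩
    have hcard : Nat.card ↥(fixedPoints (zpowers y) Ω) = Nat.card ↥(fixedPoints (zpowers d) Ω) := by
      refine Nat.card_congr
        { toFun := fun w => ⟨g • (w : Ω), ?_⟩
          invFun := fun w => ⟨g⁻¹ • (w : Ω), ?_⟩
          left_inv := fun w => Subtype.ext (inv_smul_smul g (w : Ω))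
          right_inv := fun w => Subtype.ext (smul_inv_smul g (w : Ω)) }
      · rintro ⟨e, he⟩
        obtain ⟨i, rfl⟩ := mem_zpowers_iff.1 he
        refine MulAction.mem_stabilizer_iff.1 ((stabilizer G (g • (w : Ω))).zpow_mem ?_ i)
        show d • g • (w : Ω) = g • (w : Ω)
        rw [mul_smul, mul_smul, inv_smul_smul, show y • (w : Ω) = w from w.2 ⟨y, mem_zpowers y⟩]
      · rintro ⟨e, he⟩
        obtain ⟨i, rfl⟩ := mem_zpowers_iff.1 he
        refine MulAction.mem_stabilizer_iff.1 ((stabilizer G (g⁻¹ • (w : Ω))).zpow_mem ?_ i)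
        show y • g⁻¹ • (w : Ω) = g⁻¹ • (w : Ω)
        have : d • (w : Ω) = w := w.2 ⟨d, mem_zpowers d⟩
        rw [mul_smul, mul_smul] at this
        rw [← inv_smul_smul g (y • g⁻¹ • (w : Ω)), this]
    rw [hcard, S.card_fixed hb (zpowers_le.2 hd)]
    have hd1 : d ≠ 1 := fun e => hy1 (conj_eq_one_iff.1 e)
    rcases h.cent d hd hd1 with e | e <;> rw [e]
    have := h.eq_half
    exact ⟨j + 1, by omega⟩

include S in
/-- An element of `A` of order not dividing `P + 1` has centraliser `A`. -/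
theorem centralizer_le_A (hb : b ≠ S.a) (h : Facts S b z t P j) {g : G} (hg : g ∈ S.A)
    (hord : ¬ orderOf g ∣ P + 1) : centralizer ({g} : Set G) ≤ S.A := by
  classical
  intro c hc
  rw [mem_centralizer_singleton_iff] at hc
  obtain ⟨k, hk, hka⟩ := S.A_trans (c • S.a)
  set y := k⁻¹ * c
  have hya : y • S.a = S.a := by rw [mul_smul, inv_smul_eq_iff, hka]
  have hyg : y * g = g * y := by
    have h1 := S.A_comm (inv_mem hk) hg
    calc k⁻¹ * c * g = k⁻¹ * (c * g) := by group
      _ = k⁻¹ * (g * c) := by rw [hc]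
      _ = (k⁻¹ * g) * c := by group
      _ = (g * k⁻¹) * c := by rw [h1]
      _ = g * (k⁻¹ * c) := by group
  by_contra hcA
  have hy1 : y ≠ 1 := fun e => hcA (by rw [← inv_mul_eq_one.1 e]; exact hk)
  -- `⟨g⟩` acts freely on `Fix y`
  let Δ : SubMulAction ↥(zpowers g) Ω :=
    { carrier := fixedPoints (zpowers y) Ω
      smul_mem' := by
        rintro ⟨s, hs⟩ w hw ⟨e, he⟩
        obtain ⟨i, rfl⟩ := mem_zpowers_iff.1 hs
        obtain ⟨k, rfl⟩ := mem_zpowers_iff.1 he
        show y ^ k • g ^ i • w = g ^ i • w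
        rw [← mul_smul, ((Commute.zpow_zpow hyg k i)).eq, mul_smul,
          show y ^ k • w = w from hw ⟨y ^ k, zpow_mem (mem_zpowers y) k⟩] }
  have hdvd : orderOf g ∣ Nat.card ↥(fixedPoints (zpowers y) Ω) := by
    have hc' : Nat.card ↥(fixedPoints (zpowers y) Ω) = Nat.card ↥Δ := rfl
    letI := Fintype.ofFinite (MulAction.orbitRel.Quotient ↥(zpowers g) ↥Δ)
    rw [hc', Nat.card_congr (MulAction.selfEquivSigmaOrbits' ↥(zpowers g) ↥Δ), Nat.card_sigma]
    refine Finset.dvd_sum fun ω _ => ?_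
    obtain ⟨w, rfl⟩ := Quotient.exists_rep ω
    have h1 := Nat.card_congr (MulAction.orbitEquivQuotientStabilizer ↥(zpowers g) w)
    have hst : stabilizer ↥(zpowers g) w = ⊥ := by
      rw [Subgroup.eq_bot_iff_forall]
      intro s hs
      exact Subtype.ext (S.A_free _ (zpowers_le.2 hg s.2) (w : Ω)
        (congrArg (fun v : ↥Δ => (v : Ω)) (mem_stabilizer_iff.1 hs)))
    rw [hst] at h1
    rw [MulAction.orbitRel.Quotient.orbit_mk, h1, ← Subgroup.index_eq_card, Subgroup.index_bot,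
      Nat.card_zpowers]
  rcases S.card_fixed_dvd hb h hy1 hya with e | e
  · exact hord (by rw [e] at hdvd; exact hdvd.trans (one_dvd _))
  · exact hord (hdvd.trans e)

/-- `|C(z)| = n |C_D(z)|`. -/
theorem card_centralizer (hzA : z ∈ S.A) (hza : z • S.a = b) :
    Nat.card (centralizer ({z} : Set G)) = Nat.card Ω * Nat.card (cD S b z) := by
  rw [← S.card_A, ← Nat.card_prod]
  refine (Nat.card_congr (Equiv.ofBijective (fun p : ↥S.A × ↥(cD S b z) =>
    (⟨(p.1 : G) * p.2, mem_centralizer_singleton_iff.2 ?_⟩ : ↥(centralizer ({z} : Set G)))) ⟨?_, ?_⟩)).symm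
  · have h1 := S.A_comm p.1.2 hzA
    have h2 := (S.mem_cD.1 p.2.2).2
    calc (p.1 : G) * p.2 * z = p.1 * (z * p.2) := by rw [h2]; group
      _ = (p.1 * z) * p.2 := by group
      _ = z * (p.1 * p.2) := by rw [h1]; group
  · rintro ⟨g, c⟩ ⟨g', c'⟩ e
    have e' : (g : G) * c = g' * c' := congrArg Subtype.val e
    have h1 : g = g' := Subtype.ext (S.A_unique g.2 g'.2 (x := S.a) (by
      have := congrArg (fun u : G => u • S.a) e'
      simpa [mul_smul, (mem_pt2.1 (S.mem_cD.1 c.2).1).1, (mem_pt2.1 (S.mem_cD.1 c'.2).1).1] using this))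
    subst h1
    rw [show c = c' from Subtype.ext (mul_left_cancel e')]
  · rintro ⟨x, hx⟩
    obtain ⟨g, hg, hga⟩ := S.A_trans (x • S.a)
    have hy : (g⁻¹ * x) • S.a = S.a := by rw [mul_smul, inv_smul_eq_iff, hga]
    have hx' := mem_centralizer_singleton_iff.1 hx
    have hzy : z * (g⁻¹ * x) = g⁻¹ * x * z := by
      have h1 := S.A_comm (inv_mem hg) hzA
      calc z * (g⁻¹ * x) = (z * g⁻¹) * x := by group
        _ = g⁻¹ * (z * x) := by rw [← h1]; group
        _ = g⁻¹ * x * z := by rw [← hx']; group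
    have hyD : g⁻¹ * x ∈ pt2 G Ω S.a b :=
      mem_pt2.2 ⟨hy, by rw [← hza, ← mul_smul, ← hzy, mul_smul, hy]⟩
    exact ⟨(⟨g, hg⟩, ⟨g⁻¹ * x, S.mem_cD.2 ⟨hyD, hzy⟩⟩), Subtype.ext (by simp)⟩

include S in
theorem card_group (hb : b ≠ S.a) :
    Nat.card G = Nat.card Ω * (Nat.card S.F * Nat.card (pt2 G Ω S.a b)) := by
  haveI : IsPretransitive G Ω := ⟨fun x y => by
    obtain ⟨g, hg, hgx⟩ := S.A_trans x
    obtain ⟨h, hh, hhy⟩ := S.A_trans y
    exact ⟨h * g⁻¹, by rw [← hgx, mul_smul, inv_smul_smul, hhy]⟩⟩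
  rw [← Subgroup.card_mul_index (stabilizer G S.a), MulAction.index_stabilizer_of_transitive,
    mul_comm, Nat.card_eq_fintype_card (α := Ω)]
  congr 1
  rw [← Nat.card_prod]
  refine (Nat.card_congr (Equiv.ofBijective (fun p : ↥S.F × ↥(pt2 G Ω S.a b) =>
    (⟨(p.1 : G) * p.2, ?_⟩ : ↥(stabilizer G S.a))) ⟨?_, ?_⟩)).symm
  · exact mul_mem (S.F_le p.1.2) (show (p.2 : G) ∈ stabilizer G S.a from (mem_pt2.1 p.2.2).1)
  · rintro ⟨f, d⟩ ⟨f', d'⟩ e
    have e' : (f : G) * d = f' * d' := congrArg Subtype.val e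
    have h1 : f = f' := Subtype.ext (S.F_unique f.2 f'.2 hb (by
      have := congrArg (fun u : G => u • b) e'
      simpa [mul_smul, (mem_pt2.1 d.2).2, (mem_pt2.1 d'.2).2] using this))
    subst h1
    rw [show d = d' from Subtype.ext (mul_left_cancel e')]
  · rintro ⟨x, hx⟩
    obtain ⟨f, hf, d, hd, rfl⟩ := S.exists_F_mul hb (show x • S.a = S.a from hx)
    exact ⟨(⟨f, hf⟩, ⟨d, hd⟩), rfl⟩

include S in
/-- `P ≥ 5` is impossible. -/
theorem no_large (hb : b ≠ S.a) (hzA : z ∈ S.A) (hz2 : orderOf z = 2) (hza : z • S.a = b)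
    (h : Facts S b z t P j) : P ≤ 3 := by
  classical
  by_contra hP3
  set W := j * P + 1 with hW
  set X := centralizer ({z} : Set G)
  have hcC : 0 < Nat.card (cD S b z) := Nat.card_pos
  have hCle : Nat.card (cD S b z) ≤ P + 1 := Nat.le_of_dvd (by omega) h.cD_dvd
  have hPj := h.eq_half
  have hWP : P + 1 < W := by
    rw [hW]
    have : 2 * P ≤ j * P := Nat.mul_le_mul_right _ (by omega)
    omega
  have hX := S.card_centralizer hzA hza
  have hAX : S.A ≤ X := fun g hg => mem_centralizer_singleton_iff.2 (S.A_comm hg hzA)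
  -- conjugates of `A` meeting `A` in order `> P + 1`
  have hkey : ∀ x : G, P + 1 < Nat.card (S.A ⊓ S.A.map (MulAut.conj x).toMonoidHom : Subgroup G) ∨
      ¬ (Nat.card (S.A ⊓ S.A.map (MulAut.conj x).toMonoidHom : Subgroup G) ∣ P + 1) →
      x ∈ normalizer (S.A : Set G) := by
    intro x hx
    set V : Subgroup G := S.A ⊓ S.A.map (MulAut.conj x).toMonoidHom
    haveI := S.A_cyc
    haveI : IsCyclic ↥V := Subgroup.isCyclic_of_le (H' := S.A) inf_le_left
    obtain ⟨v, hv⟩ := IsCyclic.exists_generator (α := ↥V)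
    have hord : orderOf (v : G) = Nat.card V := by
      rw [orderOf_coe]
      exact orderOf_eq_card_of_forall_mem_zpowers hv
    have hnd : ¬ orderOf (v : G) ∣ P + 1 := by
      rw [hord]
      rcases hx with hx | hx
      · exact fun hd => absurd (Nat.le_of_dvd (by omega) hd) (by omega)
      · exact hx
    have hle : S.A.map (MulAut.conj x).toMonoidHom ≤ S.A := by
      refine le_trans ?_ (S.centralizer_le_A hb h v.2.1 hnd)
      rintro _ ⟨u, hu, rfl⟩
      obtain ⟨v', hv', hvv⟩ := v.2.2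
      rw [mem_centralizer_singleton_iff, ← hvv]
      simp only [MulEquiv.coe_toMonoidHom]
      rw [← map_mul, ← map_mul, S.A_comm hu hv']
    rw [mem_normalizer_iff_map_conj_eq]
    exact Subgroup.eq_of_le_of_card_ge hle
      (Nat.card_congr (S.A.equivMapOfInjective _ (MulAut.conj x).injective).toEquiv).le
  have hNX : normalizer (S.A : Set G) = X := by
    refine le_antisymm ?_ fun x hx => hkey x ?_
    · intro x hx
      refine mem_centralizer_singleton_iff.2 ?_
      have h1 := invol_unique S.A_cyc ((mem_normalizer_iff.1 hx z).1 hzA) hzA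
        ((MulEquiv.orderOf_eq (MulAut.conj x) z).trans hz2) hz2
      exact mul_inv_eq_iff_eq_mul.1 h1
    · left
      have hAx : S.A.map (MulAut.conj x).toMonoidHom ≤ X := by
        rintro _ ⟨u, hu, rfl⟩
        exact mul_mem (mul_mem hx (hAX hu)) (inv_mem hx)
      set A' := S.A.map (MulAut.conj x).toMonoidHom
      have hA' : Nat.card A' = Nat.card S.A :=
        (Nat.card_congr (S.A.equivMapOfInjective _ (MulAut.conj x).injective).toEquiv).symm
      have h1 : A'.relIndex S.A ≤ A'.relIndex X :=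
        Subgroup.relIndex_le_of_le_right hAX (Nat.pos_iff_ne_zero.1 (Nat.card_pos (α := ↥X ⧸ A'.subgroupOf X)))
      have h2 : Nat.card (S.A ⊓ A' : Subgroup G) * A'.relIndex S.A = Nat.card S.A := by
        rw [Subgroup.relIndex, ← Subgroup.card_mul_index (A'.subgroupOf S.A)]
        congr 1
        rw [inf_comm, ← Subgroup.inf_subgroupOf_right A' S.A,
          Nat.card_congr (subgroupOfEquivOfLe (inf_le_right : A' ⊓ S.A ≤ S.A)).toEquiv]
      have h3 : Nat.card A' * A'.relIndex X = Nat.card X := by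
        rw [Subgroup.relIndex, ← Subgroup.card_mul_index (A'.subgroupOf X),
          Nat.card_congr (subgroupOfEquivOfLe hAx).toEquiv]
      rw [hA', hX, S.card_A] at h3
      have h4 : A'.relIndex X = Nat.card (cD S b z) :=
        Nat.eq_of_mul_eq_mul_left (by rw [h.card_pts]; positivity) h3
      by_contra hle
      push Not at hle
      have h5 : Nat.card S.A ≤ (P + 1) * (P + 1) := by
        rw [← h2]
        exact Nat.mul_le_mul hle (h1.trans (h4 ▸ hCle))
      rw [S.card_A, h.card_pts] at h5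
      have := Nat.le_of_mul_le_mul_left h5 (by omega : 0 < P + 1)
      omega
  have hidx : X.index = Nat.card S.F * j := by
    have h1 := Subgroup.card_mul_index X
    rw [hX, S.card_group hb, h.card_D] at h1
    refine Nat.eq_of_mul_eq_mul_left
      (show 0 < Nat.card Ω * Nat.card (cD S b z) by rw [h.card_pts]; positivity) ?_
    rw [h1]
    ring
  set g₀ := Nat.gcd W (P + 1) with hg₀
  obtain ⟨M, hM⟩ : g₀ ∣ W := Nat.gcd_dvd_left _ _
  -- orbit of `A` on `G ⧸ X` off the base point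
  have horb : ∀ q : G ⧸ X, q ≠ ((1 : G) : G ⧸ X) → M ∣ Nat.card (orbit ↥S.A q) := by
    intro q hq
    obtain ⟨g, rfl⟩ := QuotientGroup.mk_surjective q
    have hgX : g ∉ X := fun hg => hq (QuotientGroup.eq.2 (by simpa using inv_mem hg))
    have h1 := Nat.card_congr (MulAction.orbitEquivQuotientStabilizer ↥S.A (g : G ⧸ X))
    set U := stabilizer ↥S.A (g : G ⧸ X)
    have hU : ∀ u : ↥S.A, u ∈ U ↔ g⁻¹ * (u : G) * g ∈ X := by
      intro u
      rw [mem_stabilizer_iff]
      show (((u : G) * g : G) : G ⧸ X) = (g : G ⧸ X) ↔ _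
      rw [QuotientGroup.eq]
      constructor <;> intro hh
      · simpa [mul_assoc] using inv_mem hh
      · simpa [mul_assoc] using inv_mem hh
    -- `U` modulo its intersection with the conjugate of `A`
    let φ : ↥U →* ↥X := MonoidHom.mk' (fun u => ⟨g⁻¹ * ((u : ↥S.A) : G) * g, (hU _).1 u.2⟩)
      fun u v => Subtype.ext (by simp [mul_assoc])
    haveI : (S.A.subgroupOf X).Normal :=
      (Subgroup.normal_subgroupOf_iff_le_normalizer hAX).2 hNX.ge
    let ψ := (QuotientGroup.mk' (S.A.subgroupOf X)).comp φ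
    have hrange : Nat.card ψ.range ∣ Nat.card (cD S b z) := by
      have e : Nat.card (↥X ⧸ S.A.subgroupOf X) = Nat.card (cD S b z) := by
        have h2 := Subgroup.card_mul_index (S.A.subgroupOf X)
        rw [Nat.card_congr (subgroupOfEquivOfLe hAX).toEquiv, S.card_A, hX] at h2
        rw [← Subgroup.index_eq_card]
        exact Nat.eq_of_mul_eq_mul_left (show 0 < Nat.card Ω by rw [h.card_pts]; positivity) h2
      rw [← e]
      exact Subgroup.card_subgroup_dvd_card _
    have hker : Nat.card ψ.ker ∣ P + 1 := by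
      have hV : Nat.card (S.A ⊓ S.A.map (MulAut.conj g).toMonoidHom : Subgroup G) ∣ P + 1 := by
        by_contra hn
        exact hgX (hNX ▸ hkey g (Or.inr hn))
      refine Nat.dvd_trans ?_ hV
      refine Subgroup.card_dvd_of_injective
        (((S.A.subtype.comp U.subtype).comp ψ.ker.subtype).codRestrict
          (S.A ⊓ S.A.map (MulAut.conj g).toMonoidHom) ?_) ?_
      · intro u
        refine ⟨((u : ↥U) : ↥S.A).2, ?_⟩
        have hu := u.2
        rw [MonoidHom.mem_ker, MonoidHom.comp_apply, QuotientGroup.mk'_apply, QuotientGroup.eq_one_iff,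
          mem_subgroupOf] at hu
        refine ⟨_, hu, ?_⟩
        show g * (g⁻¹ * (((u : ↥U) : ↥S.A) : G) * g) * g⁻¹ = _
        simp [mul_assoc]
      · intro u v huv
        exact Subtype.ext (Subtype.ext (Subtype.ext (congrArg Subtype.val huv :)))
    have hUd : Nat.card U ∣ (P + 1) * (P + 1) := by
      rw [← Subgroup.card_mul_index ψ.ker, Subgroup.index_ker]
      exact mul_dvd_mul hker (hrange.trans h.cD_dvd)
    have hUn : Nat.card U * U.index = (P + 1) * W := by
      rw [Subgroup.card_mul_index, S.card_A, h.card_pts]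
    have hUg : Nat.card U ∣ (P + 1) * g₀ := by
      rw [hg₀, ← Nat.gcd_mul_left]
      exact Nat.dvd_gcd ⟨U.index, hUn.symm⟩ hUd
    obtain ⟨k, hk⟩ := hUg
    rw [h1, ← Subgroup.index_eq_card]
    refine ⟨k, Nat.eq_of_mul_eq_mul_left (Nat.card_pos (α := ↥U)) ?_⟩
    rw [hUn, hM]
    calc (P + 1) * (g₀ * M) = (P + 1) * g₀ * M := by ring
      _ = Nat.card U * k * M := by rw [hk]
      _ = Nat.card U * (M * k) := by ring
  have hsum : ∃ s, Nat.card S.F * j = 1 + M * s := by
    letI := Fintype.ofFinite (MulAction.orbitRel.Quotient ↥S.A (G ⧸ X))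
    have h1 := Nat.card_congr (MulAction.selfEquivSigmaOrbits' ↥S.A (G ⧸ X))
    rw [← Subgroup.index_eq_card, hidx, Nat.card_sigma] at h1
    rw [← Finset.add_sum_erase _ _ (Finset.mem_univ
      (Quotient.mk'' ((1 : G) : G ⧸ X) : MulAction.orbitRel.Quotient ↥S.A (G ⧸ X)))] at h1
    have h0 : Nat.card (MulAction.orbitRel.Quotient.orbit
        (Quotient.mk'' ((1 : G) : G ⧸ X) : MulAction.orbitRel.Quotient ↥S.A (G ⧸ X))) = 1 := by
      rw [MulAction.orbitRel.Quotient.orbit_mk]
      refine Nat.card_eq_one_iff_unique.2 ⟨⟨?_⟩, ⟨⟨_, mem_orbit_self _⟩⟩⟩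
      have hf : ∀ u : ↥S.A, u • ((1 : G) : G ⧸ X) = ((1 : G) : G ⧸ X) := by
        intro u
        show (((u : G) * 1 : G) : G ⧸ X) = ((1 : G) : G ⧸ X)
        rw [QuotientGroup.eq]
        simpa using inv_mem (hAX u.2)
      rintro ⟨_, u, rfl⟩ ⟨_, v, rfl⟩
      exact Subtype.ext ((hf u).trans (hf v).symm)
    rw [h0] at h1
    obtain ⟨s, hs⟩ : M ∣ ∑ ω ∈ Finset.univ.erase (Quotient.mk'' ((1 : G) : G ⧸ X) :
        MulAction.orbitRel.Quotient ↥S.A (G ⧸ X)), Nat.card (MulAction.orbitRel.Quotient.orbit ω) := by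
      refine Finset.dvd_sum fun ω hω => ?_
      obtain ⟨q, rfl⟩ := Quotient.mk''_surjective ω
      rw [MulAction.orbitRel.Quotient.orbit_mk]
      exact horb q fun e => (Finset.mem_erase.1 hω).1 (by rw [e])
    exact ⟨s, by rw [h1, hs]⟩
  obtain ⟨s, hs⟩ := hsum
  -- `M ∣ n`, so `M ∣ j + 1`
  have hMj : M ∣ j + 1 := by
    have hn : Nat.card S.F + 1 = (P + 1) * (g₀ * M) := by rw [S.card_F hb, h.card_pts, ← hW, hM]
    have h2 : j * ((P + 1) * (g₀ * M)) = j + 1 + M * s := by
      rw [← hn, mul_add, mul_comm j, hs, mul_one]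
      ring
    have h3 : M ∣ j + 1 + M * s := h2 ▸ ⟨j * ((P + 1) * g₀), by ring⟩
    exact (Nat.dvd_add_left (dvd_mul_right _ _)).1 h3
  have hg4 : g₀ ∣ 4 := by
    have h1 : g₀ ∣ W := Nat.gcd_dvd_left _ _
    have h2 : g₀ ∣ P + 1 := Nat.gcd_dvd_right _ _
    have e : 2 * W + 2 * (P + 1) = P * (P + 1) + 4 := by
      rw [hW, hPj]; ring
    have h3 : g₀ ∣ P * (P + 1) + 4 :=
      e ▸ dvd_add (dvd_mul_of_dvd_right h1 _) (dvd_mul_of_dvd_right h2 _)
    exact (Nat.dvd_add_right (dvd_mul_of_dvd_right h2 _)).1 h3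
  have hWle : W ≤ 4 * (j + 1) := by
    rw [hM]
    exact Nat.mul_le_mul (Nat.le_of_dvd (by norm_num) hg4) (Nat.le_of_dvd (Nat.succ_pos _) hMj)
  have hj2 : j = 2 := by
    have h1 : j * (2 * j + 1) + 1 ≤ 4 * (j + 1) := by
      rw [← hPj, ← hW]; exact hWle
    nlinarith
  subst hj2
  have hP5 : P = 5 := by omega
  subst hP5
  have hg : g₀ = 1 := by rw [hg₀, hW]; decide
  rw [hW, hg, one_mul] at hM
  subst hM
  exact absurd (Nat.le_of_dvd (by norm_num) hMj) (by norm_num)

end Setting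

end CfsgLib.Perm.CycStab
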