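import Cfsg.Agent.Lib.Perm.CycStab.Cong
import Cfsg.Agent.Lib.Perm.CycStab.Arith

/-!
# Doubly transitive groups of even degree with a regular cyclic subgroup and metacyclic stabiliser

They are sharply triply transitive of degree `p + 1`, `p` a prime.
-/

set_option autoImplicit false
set_option linter.unusedSectionVars false

namespace CfsgLib.Perm.CycStab

open Subgroup MulAction

universe u

variable {G Ω : Type u} [Group G] [Finite G] [MulAction G Ω] [Fintype Ω] [DecidableEq Ω]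

/-- A unit of `ZMod 15` without non-zero fixed points whose square has three fixed points. -/
theorem sign_unit_fifteen : ∀ e : (ZMod 15)ˣ,
    (Finset.univ.filter (fun x : ZMod 15 => (e : ZMod 15) * x = x)).card = 1 →
    (Finset.univ.filter (fun x : ZMod 15 => (e : ZMod 15) * ((e : ZMod 15) * x) = x)).card = 3 →
    Equiv.Perm.sign (Units.mulLeft e) = 1 := by
  decide +kernel

/-- An automorphism of a cyclic group of order 15 fixing only the identity, with square fixing
three elements, is an even permutation. -/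
theorem sign_aut_fifteen {K : Type*} [Group K] [Fintype K] [DecidableEq K] [IsCyclic K]
    (hK : Nat.card K = 15) (α : MulAut K) (h1 : Nat.card {x : K // α x = x} = 1)
    (h3 : Nat.card {x : K // α (α x) = x} = 3) : Equiv.Perm.sign α.toEquiv = 1 := by
  classical
  have ψ : Multiplicative (ZMod 15) ≃* K := by
    rw [← hK]; exact zmodCyclicMulEquiv inferInstance
  let φ : ZMod 15 ≃+ ZMod 15 := AddEquiv.toMultiplicative.symm ((ψ.trans α).trans ψ.symm)
  have hφ : ∀ x : ZMod 15, φ x = φ 1 * x := by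
    intro x
    have := map_nsmul φ x.val 1
    rwa [nsmul_one, ZMod.natCast_zmod_val, nsmul_eq_mul, ZMod.natCast_zmod_val, mul_comm] at this
  obtain ⟨y, hy⟩ := φ.surjective 1
  let e : (ZMod 15)ˣ := ⟨φ 1, y, by rw [← hφ, hy], by rw [mul_comm, ← hφ, hy]⟩
  let w : ZMod 15 ≃ K := Multiplicative.ofAdd.trans ψ.toEquiv
  have hw : ∀ x, α (w x) = w ((e : ZMod 15) * x) := by
    intro x
    show α (ψ (Multiplicative.ofAdd x)) = ψ (Multiplicative.ofAdd (φ 1 * x))
    rw [← hφ]
    show _ = ψ (Multiplicative.ofAdd (Multiplicative.toAdd (ψ.symm (α (ψ (Multiplicative.ofAdd x))))))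
    simp
  rw [← Equiv.Perm.sign_eq_sign_of_equiv (Units.mulLeft e) α.toEquiv w (fun x => (hw x).symm)]
  refine sign_unit_fifteen e ?_ ?_
  · rw [← h1, ← Nat.card_eq_finsetCard]
    refine Nat.card_congr (w.subtypeEquiv fun x => ?_)
    simp [hw]
  · rw [← h3, ← Nat.card_eq_finsetCard]
    refine Nat.card_congr (w.subtypeEquiv fun x => ?_)
    simp [hw]

namespace Setting

variable (S : Setting G Ω) {b : Ω} {z t : G}

/-- Conjugation of `D` on `F`. -/
noncomputable def conjF : ↥(pt2 G Ω S.a b) →* MulAut ↥S.F :=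
  MonoidHom.mk' (fun d =>
      { toFun := fun f => ⟨(d : G) * f * (d : G)⁻¹, S.F_normalised (mem_pt2.1 d.2).1 f.2⟩
        invFun := fun f => ⟨(d : G)⁻¹ * f * ((d : G)⁻¹)⁻¹,
          S.F_normalised (mem_pt2.1 (inv_mem d.2)).1 f.2⟩
        left_inv := fun f => Subtype.ext (by simp [mul_assoc])
        right_inv := fun f => Subtype.ext (by simp [mul_assoc])
        map_mul' := fun f g => Subtype.ext (by simp [mul_assoc]) })
    fun d e => MulEquiv.ext fun f => Subtype.ext (by simp [mul_assoc])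

theorem conjF_apply (d : ↥(pt2 G Ω S.a b)) (f : ↥S.F) :
    ((S.conjF d f : ↥S.F) : G) = (d : G) * f * (d : G)⁻¹ := rfl

theorem conjF_injective (hb : b ≠ S.a) : Function.Injective (S.conjF (b := b)) := by
  rw [← MonoidHom.ker_eq_bot_iff, Subgroup.eq_bot_iff_forall]
  intro d hd
  refine Subtype.ext (S.eq_one_of_centralises_F hb d.2 fun f hf => ?_)
  have h := congrArg (fun α : MulAut ↥S.F => ((α ⟨f, hf⟩ : ↥S.F) : G)) (MonoidHom.mem_ker.1 hd)
  simp only [conjF_apply] at h
  exact mul_inv_eq_iff_eq_mul.1 h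

theorem card_fix_conjF (d : ↥(pt2 G Ω S.a b)) :
    Nat.card {f : ↥S.F // S.conjF d f = f} = Nat.card (S.centF (zpowers (d : G))) := by
  refine Nat.card_congr
    { toFun := fun f => ⟨(f.1 : G), f.1.2, mem_centralizer_iff.2 ?_⟩
      invFun := fun f => ⟨⟨f, f.2.1⟩, Subtype.ext ?_⟩
      left_inv := fun f => rfl
      right_inv := fun f => rfl }
  · intro e he
    obtain ⟨i, rfl⟩ := mem_zpowers_iff.1 he
    have h := congrArg Subtype.val f.2
    rw [conjF_apply] at h
    exact (Commute.zpow_left (mul_inv_eq_iff_eq_mul.1 h) i).eq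
  · rw [conjF_apply]
    exact mul_inv_eq_iff_eq_mul.2 (mem_centralizer_iff.1 f.2.2 _ (mem_zpowers _))

theorem sgn_eq_sign_conjF [Fintype ↥S.F] [DecidableEq ↥S.F] (hb : b ≠ S.a)
    (d : ↥(pt2 G Ω S.a b)) :
    sgn (Ω := Ω) (d : G) = Equiv.Perm.sign (S.conjF d).toEquiv := by
  have hda := (mem_pt2.1 d.2).1
  have hiff : ∀ x : Ω, (MulAction.toPerm (d : G) : Equiv.Perm Ω) x ≠ S.a ↔ x ≠ S.a := fun x =>
    not_congr ⟨fun e => smul_left_cancel (d : G) (e.trans hda.symm), fun e => by
      rw [MulAction.toPerm_apply, e, hda]⟩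
  rw [sgn_apply, ← Equiv.Perm.sign_subtypePerm _ (p := fun x : Ω => x ≠ S.a) hiff
    (fun x hx (e : x = S.a) => hx (by rw [MulAction.toPerm_apply, e, hda]))]
  refine (Equiv.Perm.sign_eq_sign_of_equiv _ _ (S.equivF hb) fun f => Subtype.ext ?_).symm
  show ((d : G) * f * (d : G)⁻¹) • b = (d : G) • (f : G) • b
  rw [mul_smul, mul_smul, inv_smul_eq_iff.2 (mem_pt2.1 d.2).2.symm]

include S in
/-- The case where the involution of `D` fixes two points. -/
theorem case_one (heven : Even (Nat.card Ω)) (hn : 2 < Nat.card Ω) (hb : b ≠ S.a) (hzA : z ∈ S.A)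
    (hz2 : orderOf z = 2) (hza : z • S.a = b) (hzb : z • b = S.a) (ht : t ∈ pt2 G Ω S.a b)
    (ht2 : orderOf t = 2) (h1 : Nat.card (S.centF (zpowers t)) = 1) :
    ∃ p : ℕ, p.Prime ∧ Nat.card Ω = p + 1 ∧ Nat.card (pt2 G Ω S.a b) = p - 1 ∧
      Nat.card (cD S b z) = 2 := by
  classical
  have hf := S.card_fixed hb (zpowers_le.2 ht)
  rw [h1] at hf
  have hcount := S.count_psi heven hb hzA hz2 hza hzb ht ht2 hf
  set j := Nat.card (S.psi hb hza hzb).range
  have hDeq := S.card_pt2_eq hb hza hzb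
  have hFn := S.card_F hb
  have hM : Nat.card S.F = 2 * j + 1 := by omega
  haveI := S.D_cyc hb.symm
  haveI := S.F_cyc
  obtain ⟨d, hd⟩ := IsCyclic.exists_generator (α := ↥(pt2 G Ω S.a b))
  have hord : orderOf (IsCyclic.mulAutMulEquiv ↥S.F (S.conjF d)) = Nat.card (pt2 G Ω S.a b) := by
    rw [MulEquiv.orderOf_eq, orderOf_injective _ (S.conjF_injective hb),
      orderOf_eq_card_of_forall_mem_zpowers hd]
  have hp : (Nat.card S.F).Prime :=
    prime_of_half (by omega) hM (IsCyclic.mulAutMulEquiv ↥S.F (S.conjF d))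
      (by rw [hord, hDeq]; exact dvd_mul_left _ _)
  haveI := Fact.mk hp
  have hdvd : Nat.card (pt2 G Ω S.a b) ∣ Nat.card S.F - 1 := by
    rw [← hord, ← ZMod.card_units (Nat.card S.F)]
    exact orderOf_dvd_card
  have htC := S.t_mem_cD hb hza hzb ht ht2
  have h2C : 2 ∣ Nat.card (cD S b z) := by
    rw [← ht2]
    exact Subgroup.orderOf_mk t htC ▸ orderOf_dvd_natCard (⟨t, htC⟩ : ↥(cD S b z))
  have hj : 0 < j := Nat.card_pos
  rw [hDeq, hM, Nat.add_sub_cancel] at hdvd
  have hC2 : Nat.card (cD S b z) = 2 :=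
    le_antisymm (Nat.le_of_dvd two_pos (Nat.dvd_of_mul_dvd_mul_right hj hdvd))
      (Nat.le_of_dvd Nat.card_pos h2C)
  exact ⟨Nat.card S.F, hp, hFn.symm, by rw [hDeq, hC2]; omega, hC2⟩

include S in
/-- `P = 3` is impossible. -/
theorem no_three (heven : Even (Nat.card Ω)) (hb : b ≠ S.a) (ht : t ∈ pt2 G Ω S.a b)
    (ht2 : orderOf t = 2) {j : ℕ} (h : Facts S b z t 3 j) : False := by
  classical
  have hj : j = 1 := by have := h.eq_half; omega
  subst hj
  haveI := S.F_cyc
  let K : Subgroup G := pt2 G Ω S.a b ⊓ ⨅ x ∈ fixedPoints (zpowers t) Ω, stabilizer G x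
  have hKm : ∀ d, d ∈ K ↔ d ∈ pt2 G Ω S.a b ∧ ∀ x ∈ fixedPoints (zpowers t) Ω, d • x = x := by
    intro d
    simp [K, mem_inf, Subgroup.mem_iInf, mem_stabilizer_iff]
  have htK : t ∈ K := (hKm t).2 ⟨ht, fun x hx => hx ⟨t, mem_zpowers t⟩⟩
  have h2K : 2 ∣ Nat.card K := by
    rw [← ht2]
    exact Subgroup.orderOf_mk t htK ▸ orderOf_dvd_natCard (⟨t, htK⟩ : ↥K)
  have hCK := h.card_kern K hKm
  have hC4 := Nat.le_of_dvd (by norm_num) h.cD_dvd
  have hK2 : Nat.card K = 2 := le_antisymm (by omega) (Nat.le_of_dvd Nat.card_pos h2K)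
  have hD4 : Nat.card (pt2 G Ω S.a b) = 4 := by rw [h.card_D, hCK, hK2]
  haveI := S.D_cyc hb.symm
  obtain ⟨d, hd, hsd⟩ := S.exists_odd_pt2 heven (by rw [h.card_pts]; norm_num) hb
  obtain ⟨g, hg⟩ := IsCyclic.exists_generator (α := ↥(pt2 G Ω S.a b))
  have hg4 : orderOf (g : G) = 4 := by
    rw [orderOf_coe, orderOf_eq_card_of_forall_mem_zpowers hg, hD4]
  have hgt : (g : G) ^ 2 = t := invol_unique (S.D_cyc hb.symm) (pow_mem g.2 2) ht
    (by rw [orderOf_pow' _ two_ne_zero, hg4]; rfl) ht2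
  have hts : sgn (Ω := Ω) t = 1 := by
    rw [← hgt, map_pow, sq]
    exact Int.units_mul_self _
  have hgs : sgn (Ω := Ω) (g : G) = -1 := by
    refine (Int.units_eq_one_or _).resolve_left fun e => ?_
    obtain ⟨i, hi⟩ := mem_zpowers_iff.1 (hg ⟨d, hd⟩)
    have : d = (g : G) ^ i := by simpa using (congrArg Subtype.val hi).symm
    rw [this, map_zpow, e, one_zpow] at hsd
    exact absurd hsd (by decide)
  have hcg : Nat.card (S.centF (zpowers (g : G))) = 1 := by
    rcases h.cent g g.2 (fun e => by rw [e, orderOf_one] at hg4; omega) with e | e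
    · exact e
    · exfalso
      have hsub : S.centF (zpowers (g : G)) ≤ S.centF (zpowers t) := fun f hf =>
        ⟨hf.1, mem_centralizer_iff.2 fun u hu => mem_centralizer_iff.1 hf.2 u
          (zpowers_le.2 (hgt ▸ pow_mem (mem_zpowers (g : G)) 2) hu)⟩
      have heq := Subgroup.eq_of_le_of_card_ge hsub (by rw [h.card_centF, e])
      have hgK : (g : G) ∈ K := by
        refine (hKm _).2 ⟨g.2, fun x hx => ?_⟩
        rcases (S.mem_fixed_iff hb (zpowers_le.2 ht)).1 hx with rfl | ⟨f, hf, rfl⟩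
        · exact (mem_pt2.1 g.2).1
        · exact (S.fix_iff hb g.2 hf.1).2 (mem_centralizer_iff.1 (heq ▸ hf : f ∈ S.centF (zpowers (g : G))).2 _
            (mem_zpowers _))
      have := Nat.le_of_dvd Nat.card_pos
        (Subgroup.orderOf_mk _ hgK ▸ orderOf_dvd_natCard (⟨g, hgK⟩ : ↥K))
      omega
  letI := Fintype.ofFinite ↥S.F
  have hsign := sign_aut_fifteen (K := ↥S.F) (by rw [h.card_F]) (S.conjF g)
    (by rw [S.card_fix_conjF, hcg]) (by
      have e : S.conjF g * S.conjF g = S.conjF (g * g) := (map_mul _ _ _).symm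
      rw [show {x : ↥S.F // S.conjF g (S.conjF g x) = x} = {x : ↥S.F // S.conjF (g * g) x = x} by
        simp only [← MulAut.mul_apply, e], S.card_fix_conjF, Subgroup.coe_mul, ← sq, hgt, h.card_centF])
  rw [← S.sgn_eq_sign_conjF hb g, hgs] at hsign
  exact absurd hsign (by decide)

end Setting

/-- The core theorem. -/
theorem coreBelow : ∀ N, CoreBelow.{u} N := by
  intro N
  induction N using Nat.strong_induction_on with
  | _ N IH =>
    intro G Ω _ _ _ _ _ S hN heven hn
    obtain ⟨z, hzA, hz2⟩ := S.exists_z heven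
    set b := z • S.a with hbdef
    have hb : b ≠ S.a := fun e => by
      have := S.A_free z hzA _ e
      rw [this, orderOf_one] at hz2
      omega
    have hzb : z • b = S.a := Setting.smul_smul_of_two hz2 _
    obtain ⟨t, ht, ht2⟩ := S.exists_t heven hn hb
    by_cases h1 : Nat.card (S.centF (zpowers t)) = 1
    · obtain ⟨p, hp, hnp, hD, hC⟩ := S.case_one heven hn hb hzA hz2 hbdef.symm hzb ht ht2 h1
      refine ⟨p, hp, hnp, fun b' hb' => ?_, fun z' hz' hz'2 d hd hdz => ?_⟩
      · obtain ⟨g, hga, hgb⟩ := S.two hb.symm hb'.symm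
        rw [← hD, ← hga, ← hgb, ← Setting.conj_pt2 g, hga]
        exact (Nat.card_congr (Subgroup.equivMapOfInjective _ _ (MulAut.conj g).injective).toEquiv).symm
      · obtain rfl := Setting.invol_unique S.A_cyc hz' hzA hz'2 hz2
        have hdC : d ∈ cD S b z' := S.mem_cD.2 ⟨hd, hdz⟩
        have := pow_card_eq_one' (x := (⟨d, hdC⟩ : ↥(cD S b z')))
        rw [hC, sq] at this
        exact congrArg Subtype.val this
    · exfalso
      have hP : 1 < Nat.card (S.centF (zpowers t)) := by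
        have : 0 < Nat.card (S.centF (zpowers t)) := Nat.card_pos
        omega
      obtain ⟨P, j, hF⟩ := S.facts (IH _ hN) heven hb hzA hz2 hbdef.symm hzb ht ht2 hP
      have hle := S.no_large hb hzA hz2 hbdef.symm hF
      have h3 : P = 3 := by
        have := hF.eq_half
        have := hF.P_prime.two_le
        omega
      subst h3
      exact S.no_three heven hb ht ht2 hF

/-- Sharply triply transitive of degree `p + 1`. -/
theorem core (S : Setting G Ω) (heven : Even (Nat.card Ω)) (hn : 2 < Nat.card Ω) :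
    ∃ p : ℕ, p.Prime ∧ Nat.card Ω = p + 1 ∧ Nat.card G = (p + 1) * (p * (p - 1)) ∧
      IsMultiplyPretransitive G Ω 3 ∧
      (∀ g : G, ∀ x y w : Ω, x ≠ y → x ≠ w → y ≠ w →
        g • x = x → g • y = y → g • w = w → g = 1) := by
  obtain ⟨p, hp, hnp, hD, -⟩ := coreBelow.{u} (Nat.card Ω + 1) S (Nat.lt_succ_self _) heven hn
  obtain ⟨z, hzA, hz2⟩ := S.exists_z heven
  set b := z • S.a
  have hb : b ≠ S.a := fun e => by
    have := S.A_free z hzA _ e
    rw [this, orderOf_one] at hz2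
    omega
  have hF : Nat.card S.F = p := by have := S.card_F hb; omega
  have hsharp : ∀ g : G, ∀ x y w : Ω, x ≠ y → x ≠ w → y ≠ w →
      g • x = x → g • y = y → g • w = w → g = 1 := by
    intro g x y w hxy hxw hyw hx hy hw
    obtain ⟨k, hkx, hky⟩ := S.two hxy hb.symm
    set d := k * g * k⁻¹
    have hd : d ∈ pt2 G Ω S.a b := Setting.mem_pt2.2
      ⟨by rw [mul_smul, mul_smul, inv_smul_eq_iff.2 hkx.symm, hx, hkx],
       by rw [mul_smul, mul_smul, inv_smul_eq_iff.2 hky.symm, hy, hky]⟩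
    have hdw : d • k • w = k • w := by rw [mul_smul, mul_smul, inv_smul_smul, hw]
    have hwa : k • w ≠ S.a := fun e => hxw (smul_left_cancel k (hkx.trans e.symm))
    obtain ⟨f, hf, hfw⟩ := S.F_trans hb hwa
    have hf1 : f ≠ 1 := fun e => hyw (smul_left_cancel k (by rw [hky, ← hfw, e, one_smul]))
    rw [← hfw] at hdw
    have hc := (S.fix_iff hb hd hf).1 hdw
    have hd1 : d = 1 := by
      refine S.eq_one_of_centralises_F hb hd fun f' hf' => ?_
      haveI := Fact.mk hp
      have hfz : zpowers f = S.F := by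
        refine Subgroup.eq_of_le_of_card_ge (zpowers_le.2 hf) ?_
        rw [hF, Nat.card_zpowers]
        have h1 : orderOf f ∣ p := hF ▸ (Subgroup.orderOf_mk f hf ▸ orderOf_dvd_natCard (⟨f, hf⟩ : ↥S.F))
        rcases (Nat.dvd_prime hp).1 h1 with h | h
        · exact absurd (orderOf_eq_one_iff.1 h) hf1
        · rw [h]
      obtain ⟨i, rfl⟩ := mem_zpowers_iff.1 (hfz.symm ▸ hf' : f' ∈ zpowers f)
      exact (Commute.zpow_right hc i).eq
    exact conj_eq_one_iff.1 hd1
  refine ⟨p, hp, hnp, ?_, ?_, hsharp⟩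
  · rw [S.card_group hb, hnp, hF, hD b hb]
  · -- the two point stabiliser is regular on the other points
    have hreg : ∀ w, w ≠ S.a → w ≠ b → ∀ w', w' ≠ S.a → w' ≠ b →
        ∃ d ∈ pt2 G Ω S.a b, d • w = w' := by
      intro w hwa hwb w' hwa' hwb'
      have hmem : ∀ d : ↥(pt2 G Ω S.a b), (d : G) • w ≠ S.a ∧ (d : G) • w ≠ b := fun d =>
        ⟨fun e => hwa (smul_left_cancel (d : G) (e.trans (Setting.mem_pt2.1 d.2).1.symm)),
         fun e => hwb (smul_left_cancel (d : G) (e.trans (Setting.mem_pt2.1 d.2).2.symm))⟩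
      have hinj : Function.Injective (fun d : ↥(pt2 G Ω S.a b) =>
          (⟨(d : G) • w, hmem d⟩ : {x : Ω // x ≠ S.a ∧ x ≠ b})) := by
        intro d e h
        have h' : (d : G) • w = (e : G) • w := congrArg Subtype.val h
        have hm := Setting.mem_pt2.1 (mul_mem (inv_mem d.2) e.2)
        refine Subtype.ext (inv_mul_eq_one.1 (hsharp _ S.a b w hb.symm (Ne.symm hwa) (Ne.symm hwb)
          hm.1 hm.2 ?_))
        rw [mul_smul, ← h', inv_smul_smul]
      have hcard : Nat.card {x : Ω // x ≠ S.a ∧ x ≠ b} = Nat.card (pt2 G Ω S.a b) := by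
        rw [hD b hb, Nat.card_eq_fintype_card, Fintype.card_subtype,
          show Finset.univ.filter (fun x : Ω => x ≠ S.a ∧ x ≠ b) = Finset.univ \ {S.a, b} by
            ext x; simp, Finset.card_sdiff_of_subset (Finset.subset_univ _), Finset.card_pair hb.symm,
          Finset.card_univ, ← Nat.card_eq_fintype_card, hnp]
        omega
      obtain ⟨d, hd⟩ := ((Nat.bijective_iff_injective_and_card _).2 ⟨hinj, hcard.symm⟩).2 ⟨w', hwa', hwb'⟩
      exact ⟨d, d.2, congrArg Subtype.val hd⟩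
    refine ⟨fun x y => ?_⟩
    have hne : ∀ v : Fin 3 ↪ Ω, v 0 ≠ v 1 ∧ v 0 ≠ v 2 ∧ v 1 ≠ v 2 := fun v =>
      ⟨v.injective.ne (by decide), v.injective.ne (by decide), v.injective.ne (by decide)⟩
    have key : ∀ v : Fin 3 ↪ Ω, ∃ g : G, g • v 0 = S.a ∧ g • v 1 = b := fun v => S.two (hne v).1 hb.symm
    obtain ⟨g, hg0, hg1⟩ := key x
    obtain ⟨k, hk0, hk1⟩ := key y
    obtain ⟨h01, h02, h12⟩ := hne x
    obtain ⟨k01, k02, k12⟩ := hne y
    obtain ⟨d, hd, hdw⟩ := hreg (g • x 2)
      (fun e => h02 (smul_left_cancel g (hg0.trans e.symm)))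
      (fun e => h12 (smul_left_cancel g (hg1.trans e.symm))) (k • y 2)
      (fun e => k02 (smul_left_cancel k (hk0.trans e.symm)))
      (fun e => k12 (smul_left_cancel k (hk1.trans e.symm)))
    obtain ⟨hda, hdb⟩ := Setting.mem_pt2.1 hd
    refine ⟨k⁻¹ * d * g, ?_⟩
    ext i
    fin_cases i
    · show (k⁻¹ * d * g) • x 0 = y 0
      rw [mul_smul, mul_smul, hg0, hda, inv_smul_eq_iff, hk0]
    · show (k⁻¹ * d * g) • x 1 = y 1
      rw [mul_smul, mul_smul, hg1, hdb, inv_smul_eq_iff, hk1]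
    · show (k⁻¹ * d * g) • x 2 = y 2
      rw [mul_smul, mul_smul, hdw, inv_smul_smul]

end CfsgLib.Perm.CycStab
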