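import Cfsg.Agent.Lib.Perm.CycStab.Sub

/-!
# When the involution of `D` fixes more than two points

The structure forced by the induction hypothesis: `n = (P+1)(jP+1)` with `P = 2j+1` prime, and
`|C|` divides `P + 1`, every non-trivial element fixing at most two points or exactly `P + 1`.
-/

set_option autoImplicit false
set_option linter.unusedSectionVars false

namespace CfsgLib.Perm.CycStab

open Subgroup MulAction

universe u

variable {G Ω : Type u} [Group G] [Finite G] [MulAction G Ω] [Fintype Ω] [DecidableEq Ω]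

/-- The centraliser of `z` in the two point stabiliser. -/
def cD (S : Setting G Ω) (b : Ω) (z : G) : Subgroup G :=
  pt2 G Ω S.a b ⊓ centralizer ({z} : Set G)

namespace Setting

variable (S : Setting G Ω) {b : Ω} {z t : G}

theorem mem_cD {d : G} : d ∈ cD S b z ↔ d ∈ pt2 G Ω S.a b ∧ z * d = d * z := by
  rw [cD, mem_inf, mem_centralizer_singleton_iff]
  exact and_congr_right fun _ => ⟨fun h => h.symm, fun h => h.symm⟩

theorem card_cD (hb : b ≠ S.a) (hza : z • S.a = b) (hzb : z • b = S.a) :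
    Nat.card (cD S b z) = Nat.card (S.psi hb hza hzb).ker := by
  refine Nat.card_congr
    { toFun := fun d => ⟨⟨d, (S.mem_cD.1 d.2).1⟩, (S.mem_psi_ker hb hza hzb _).2 (S.mem_cD.1 d.2).2⟩
      invFun := fun d => ⟨(d.1 : G), S.mem_cD.2 ⟨d.1.2, (S.mem_psi_ker hb hza hzb _).1 d.2⟩⟩
      left_inv := fun d => rfl
      right_inv := fun d => rfl }

include S in
theorem card_pt2_eq (hb : b ≠ S.a) (hza : z • S.a = b) (hzb : z • b = S.a) :
    Nat.card (pt2 G Ω S.a b) = Nat.card (cD S b z) * Nat.card (S.psi hb hza hzb).range := by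
  rw [S.card_cD hb hza hzb, ← Subgroup.index_ker, Subgroup.card_mul_index]

theorem t_mem_cD (hb : b ≠ S.a) (hza : z • S.a = b) (hzb : z • b = S.a)
    (ht : t ∈ pt2 G Ω S.a b) (ht2 : orderOf t = 2) : t ∈ cD S b z := by
  refine S.mem_cD.2 ⟨ht, ?_⟩
  have h := invol_unique (S.D_cyc hb.symm) (S.conjSwap_mem hb hza hzb ht) ht
    ((MulEquiv.orderOf_eq (MulAut.conj z) t).trans ht2) ht2
  exact mul_inv_eq_iff_eq_mul.1 h

/-- `f ↦ f (t f t⁻¹)` on `F`. -/
noncomputable def theta (ht : t ∈ pt2 G Ω S.a b) : ↥S.F →* ↥S.F :=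
  MonoidHom.mk' (fun f : ↥S.F =>
      f * (⟨t * (f : G) * t⁻¹, S.F_normalised (mem_pt2.1 ht).1 f.2⟩ : ↥S.F)) fun f g => by
    haveI := S.F_cyc
    letI := IsCyclic.commGroup (α := ↥S.F)
    have : (⟨t * ((f * g : ↥S.F) : G) * t⁻¹, S.F_normalised (mem_pt2.1 ht).1 (f * g).2⟩ : ↥S.F) =
        (⟨t * (f : G) * t⁻¹, S.F_normalised (mem_pt2.1 ht).1 f.2⟩ : ↥S.F) *
          ⟨t * (g : G) * t⁻¹, S.F_normalised (mem_pt2.1 ht).1 g.2⟩ := Subtype.ext (by simp [mul_assoc])
    simp only [this]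
    ac_rfl

theorem theta_apply (ht : t ∈ pt2 G Ω S.a b) (f : ↥S.F) :
    ((S.theta ht f : ↥S.F) : G) = f * (t * f * t⁻¹) := rfl

/-- What is known when the involution of `D` fixes more than two points. -/
structure Facts (S : Setting G Ω) (b : Ω) (z t : G) (P j : ℕ) : Prop where
  P_prime : P.Prime
  card_centF : Nat.card (S.centF (zpowers t)) = P
  eq_half : P = 2 * j + 1
  card_pts : Nat.card Ω = (P + 1) * (j * P + 1)
  card_F : Nat.card S.F = P * (1 + j * (P + 1))
  card_D : Nat.card (pt2 G Ω S.a b) = Nat.card (cD S b z) * j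
  cent : ∀ d ∈ pt2 G Ω S.a b, d ≠ 1 →
    Nat.card (S.centF (zpowers d)) = 1 ∨ Nat.card (S.centF (zpowers d)) = P
  cD_dvd : Nat.card (cD S b z) ∣ P + 1
  kern : ∀ d ∈ pt2 G Ω S.a b, (∀ x ∈ fixedPoints (zpowers t) Ω, d • x = x) → z * d = d * z
  card_kern : ∀ k : Subgroup G,
    (∀ d, d ∈ k ↔ d ∈ pt2 G Ω S.a b ∧ ∀ x ∈ fixedPoints (zpowers t) Ω, d • x = x) →
    Nat.card (cD S b z) = 2 * Nat.card k

include S in
theorem facts (IH : CoreBelow.{u} (Nat.card Ω)) (heven : Even (Nat.card Ω)) (hb : b ≠ S.a)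
    (hzA : z ∈ S.A) (hz2 : orderOf z = 2) (hza : z • S.a = b) (hzb : z • b = S.a)
    (ht : t ∈ pt2 G Ω S.a b) (ht2 : orderOf t = 2) (hP : 1 < Nat.card (S.centF (zpowers t))) :
    ∃ P j, Facts S b z t P j := by
  classical
  have hcount := S.count_psi heven hb hzA hz2 hza hzb ht ht2
    (S.card_fixed hb (zpowers_le.2 ht))
  have hDeq := S.card_pt2_eq hb hza hzb
  set P := Nat.card (S.centF (zpowers t)) with hPdef
  set j := Nat.card (S.psi hb hza hzb).range with hjdef
  have hj : 0 < j := Nat.card_pos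
  rw [Nat.add_sub_cancel] at hcount
  have hn : Nat.card Ω = (P + 1) * (j * P + 1) := by rw [hcount]; ring
  have hFc : Nat.card S.F = P * (1 + j * (P + 1)) := by
    have := S.card_F hb
    have e : (P + 1) * (j * P + 1) = P * (1 + j * (P + 1)) + 1 := by ring
    omega
  have hlt : P + 1 < Nat.card Ω := by
    have : 0 < j * ((P + 1) * P) := by positivity
    omega
  have htC := S.t_mem_cD hb hza hzb ht ht2
  obtain ⟨hPp, hK, hC⟩ := S.sub_concl IH hb (zpowers_le.2 ht) hzA hz2 hza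
    (fun e he => (mem_centralizer_singleton_iff.1 (zpowers_le.2 (mem_centralizer_singleton_iff.2
      (S.mem_cD.1 htC).2.symm) he)).symm) hlt hP
  let K : Subgroup G := pt2 G Ω S.a b ⊓ ⨅ x ∈ fixedPoints (zpowers t) Ω, stabilizer G x
  have hKm : ∀ d, d ∈ K ↔ d ∈ pt2 G Ω S.a b ∧ ∀ x ∈ fixedPoints (zpowers t) Ω, d • x = x := by
    intro d
    simp [K, mem_inf, Subgroup.mem_iInf, mem_stabilizer_iff]
  have hkern : ∀ d ∈ pt2 G Ω S.a b, (∀ x ∈ fixedPoints (zpowers t) Ω, d • x = x) → z * d = d * z :=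
    fun d _ h => S.swap_comm hb (zpowers_le.2 ht) hP h hza hzb
  have hKC : K ≤ cD S b z := fun d hd => S.mem_cD.2 ⟨((hKm d).1 hd).1, hkern d ((hKm d).1 hd).1 ((hKm d).1 hd).2⟩
  have hsqK : ∀ d ∈ cD S b z, d * d ∈ K := fun d hd =>
    (hKm _).2 ⟨mul_mem (S.mem_cD.1 hd).1 (S.mem_cD.1 hd).1, hC d (S.mem_cD.1 hd).1 (S.mem_cD.1 hd).2⟩
  have htK : t ∈ K := (hKm t).2 ⟨ht, fun x hx => hx ⟨t, mem_zpowers t⟩⟩
  haveI := S.D_cyc hb.symm
  haveI : IsCyclic ↥(cD S b z) := Subgroup.isCyclic_of_le (H' := pt2 G Ω S.a b) inf_le_left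
  letI := IsCyclic.commGroup (α := ↥(cD S b z))
  have hC2K : Nat.card (cD S b z) ≤ 2 * Nat.card K := by
    let q : ↥(cD S b z) →* ↥(cD S b z) := powMonoidHom 2
    have hr : Nat.card q.range ≤ Nat.card K := by
      refine Nat.card_le_card_of_injective (fun x => (⟨((x : ↥(cD S b z)) : G), ?_⟩ : ↥K))
        fun x y h => Subtype.ext (Subtype.ext (congrArg Subtype.val h :))
      obtain ⟨c, hc⟩ := x.2
      rw [← hc]
      simpa [q, sq] using hsqK c c.2
    have hk2 : Nat.card q.ker ≤ 2 := by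
      letI := Fintype.ofFinite ↥(cD S b z)
      refine le_trans ?_ (IsCyclic.card_pow_eq_one_le (α := ↥(cD S b z)) two_pos)
      rw [Nat.card_eq_fintype_card, ← Finset.card_univ]
      refine Finset.card_le_card_of_injOn (fun x => (x : ↥(cD S b z))) (fun x _ => ?_)
        fun x _ y _ h => Subtype.ext h
      have := x.2
      rw [MonoidHom.mem_ker] at this
      simpa [q] using this
    calc Nat.card (cD S b z) = Nat.card q.ker * Nat.card q.range := by
          rw [← Subgroup.index_ker q, Subgroup.card_mul_index]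
      _ ≤ 2 * Nat.card K := Nat.mul_le_mul hk2 hr
  obtain ⟨r, hr⟩ : Nat.card K ∣ Nat.card (cD S b z) := Subgroup.card_dvd_of_le hKC
  have hK0 : 0 < Nat.card K := Nat.card_pos
  have hr2 : r ≤ 2 := Nat.le_of_mul_le_mul_left (by rw [← hr, mul_comm]; exact hC2K) hK0
  have hr0 : 0 < r := Nat.pos_of_ne_zero fun h => by
    have : 0 < Nat.card (cD S b z) := Nat.card_pos
    simp [h] at hr; omega
  have hDK := hK K hKm
  rw [hDeq, hr] at hDK
  have hrj : r * j = P - 1 := Nat.eq_of_mul_eq_mul_left hK0 (by rw [← hDK]; ring)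
  -- `F` splits as fixed part times inverted part
  haveI := S.F_cyc
  have hFodd := S.odd_card_F heven hb
  set θ := S.theta ht
  let F₁ : Subgroup ↥S.F := (S.centF (zpowers t)).subgroupOf S.F
  have hF₁ : Nat.card F₁ = P :=
    Nat.card_congr (subgroupOfEquivOfLe (inf_le_left : S.centF (zpowers t) ≤ S.F)).toEquiv
  have hmF₁ : ∀ f : ↥S.F, f ∈ F₁ ↔ t * (f : G) = f * t := by
    intro f
    simp only [F₁, mem_subgroupOf, centF, mem_inf, SetLike.coe_mem, true_and, mem_centralizer_iff,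
      SetLike.mem_coe, mem_zpowers_iff]
    constructor
    · intro h; exact h t ⟨1, zpow_one t⟩
    · rintro h _ ⟨i, rfl⟩; exact (Commute.zpow_left h i).eq
  have htt : t * t = 1 := by rw [← sq, ← ht2, pow_orderOf_eq_one]
  have hti : t⁻¹ = t := inv_eq_of_mul_eq_one_left htt
  have hrange : θ.range = F₁ := by
    refine le_antisymm ?_ fun f hf => ?_
    · rintro _ ⟨f, rfl⟩
      rw [hmF₁, S.theta_apply, hti]
      letI := IsCyclic.commGroup (α := ↥S.F)
      have hc : (f : G) * (t * f * t) = (t * f * t) * f :=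
        congrArg Subtype.val (mul_comm f ⟨t * (f : G) * t, by
          simpa [hti] using S.F_normalised (mem_pt2.1 ht).1 f.2⟩)
      calc t * ((f : G) * (t * f * t)) = (t * f * t) * f * t := by group
        _ = (f : G) * (t * f * t) * t := by rw [hc]
    · have hg : Odd (orderOf f) := hFodd.of_dvd_nat (orderOf_dvd_natCard f)
      obtain ⟨i, hi⟩ := hg
      refine ⟨f ^ (i + 1), Subtype.ext ?_⟩
      rw [S.theta_apply, hti]
      have h1 := (hmF₁ _).1 (F₁.pow_mem hf (i + 1))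
      rw [h1, mul_assoc ((f ^ (i + 1) : ↥S.F) : G) t t, htt, mul_one, ← Subgroup.coe_mul, ← pow_add,
        show i + 1 + (i + 1) = (2 * i + 1) + 1 by ring, pow_succ, ← hi, pow_orderOf_eq_one, one_mul]
  have hker : Nat.card θ.ker = 1 + j * (P + 1) := by
    have h := Subgroup.card_mul_index θ.ker
    rw [Subgroup.index_ker, hrange, hF₁, hFc, mul_comm] at h
    exact Nat.eq_of_mul_eq_mul_left (by omega : 0 < P) h
  have hinter : θ.ker ⊓ F₁ = ⊥ := by
    rw [Subgroup.eq_bot_iff_forall]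
    rintro f ⟨h1, h2⟩
    replace h1 : θ f = 1 := h1
    rw [← Subtype.coe_inj, S.theta_apply, OneMemClass.coe_one,
      (hmF₁ f).1 h2, mul_assoc (f : G) t, mul_inv_cancel, mul_one] at h1
    have h3 : orderOf f ∣ 2 := orderOf_dvd_of_pow_eq_one (Subtype.ext (by simpa [sq] using h1))
    rcases (Nat.dvd_prime Nat.prime_two).1 h3 with h4 | h4
    · exact orderOf_eq_one_iff.1 h4
    · exact absurd (hFodd.of_dvd_nat (h4 ▸ orderOf_dvd_natCard f)) (by decide)
  have hmeet : ∀ L : Subgroup ↥S.F, ∀ q : ℕ, q.Prime → q ∣ Nat.card L → q ∣ P →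
      ∃ y ∈ L, y ∈ F₁ ∧ y ≠ 1 := by
    intro L q hq hqL hqP
    haveI := Fact.mk hq
    obtain ⟨y, hy⟩ := exists_prime_orderOf_dvd_card' (G := ↥L) q hqL
    obtain ⟨x, hx⟩ := exists_prime_orderOf_dvd_card' (G := ↥F₁) q (hF₁ ▸ hqP)
    rw [← orderOf_coe] at hy hx
    have h := eq_of_card_eq_cyclic (H := zpowers (y : ↥S.F)) (K := zpowers (x : ↥S.F))
      (by rw [Nat.card_zpowers, Nat.card_zpowers, hy, hx])
    refine ⟨y, y.2, zpowers_le.2 x.2 (h ▸ mem_zpowers _), fun e => ?_⟩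
    rw [e, orderOf_one] at hy
    exact hq.one_lt.ne hy
  have hndvd : ¬ P ∣ 1 + j * (P + 1) := by
    intro h
    obtain ⟨y, hy1, hy2, hy⟩ := hmeet θ.ker P hPp (hker ▸ h) dvd_rfl
    exact hy (Subgroup.eq_bot_iff_forall _ |>.1 hinter y ⟨hy1, hy2⟩)
  have hr_eq : r = 2 := by
    by_contra h
    have hr1 : r = 1 := by omega
    rw [hr1, one_mul] at hrj
    refine hndvd ⟨P, ?_⟩
    obtain ⟨Q, hQ⟩ : ∃ Q, P = Q + 1 := ⟨P - 1, by omega⟩
    rw [hrj, hQ, Nat.add_sub_cancel]
    ring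
  subst hr_eq
  have hhalf : P = 2 * j + 1 := by omega
  -- no element of `D` centralises an inverted element
  have hfree : ∀ d ∈ pt2 G Ω S.a b, d ≠ 1 → ∀ y ∈ θ.ker, d * (y : G) = y * d → y = 1 := by
    intro d hd hd1 y hy hdy
    by_contra hy1
    have hyE : (y : G) ∈ S.centF (zpowers d) := ⟨y.2, mem_centralizer_iff.2 fun e he => by
      obtain ⟨i, rfl⟩ := mem_zpowers_iff.1 he
      exact (Commute.zpow_left hdy i).eq⟩
    have h1 : 1 < Nat.card (S.centF (zpowers d)) :=
      (one_lt_card_iff_ne_bot _).2 fun e => hy1 (Subtype.ext ((Subgroup.eq_bot_iff_forall _).1 e _ hyE))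
    have hzd : z * d = d * z := S.swap_comm hb (zpowers_le.2 hd) h1
      (fun x hx => hx ⟨d, mem_zpowers d⟩) hza hzb
    have htd : t ∉ zpowers d := fun h => by
      have : y ∈ F₁ := (hmF₁ y).2 (mem_centralizer_iff.1 hyE.2 t h)
      exact hy1 ((Subgroup.eq_bot_iff_forall _).1 hinter y ⟨hy, this⟩)
    have hdK : d ∈ K := by
      have hodd : Odd (orderOf d) := by
        rw [← Nat.not_even_iff_odd]
        intro he
        refine htd ?_
        obtain ⟨k, hk⟩ := he
        have hk2 : orderOf (d ^ k) = 2 := by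
          haveI : Fact (Nat.Prime 2) := ⟨Nat.prime_two⟩
          refine orderOf_eq_prime (by rw [← pow_mul, show k * 2 = orderOf d by omega, pow_orderOf_eq_one]) ?_
          intro e
          have := orderOf_dvd_of_pow_eq_one e
          have h0 : 0 < orderOf d := orderOf_pos d
          have := Nat.le_of_dvd (by omega) this
          omega
        rw [← invol_unique (S.D_cyc hb.symm) (pow_mem hd k) ht hk2 ht2]
        exact pow_mem (mem_zpowers d) k
      obtain ⟨i, hi⟩ := hodd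
      have h2 : d = (d * d) ^ (i + 1) := by
        rw [← sq, ← pow_mul, show 2 * (i + 1) = (2 * i + 1) + 1 by ring, pow_succ, ← hi,
          pow_orderOf_eq_one, one_mul]
      rw [h2]
      exact K.pow_mem (hsqK d (S.mem_cD.2 ⟨hd, hzd⟩)) _
    have hsub : S.centF (zpowers t) ≤ S.centF (zpowers d) := by
      intro f hf
      refine ⟨hf.1, mem_centralizer_iff.2 fun e he => ?_⟩
      obtain ⟨i, rfl⟩ := mem_zpowers_iff.1 he
      exact (Commute.zpow_left ((S.fix_iff hb hd hf.1).1 (((hKm d).1 hdK).2 _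
        ((S.mem_fixed_iff hb (zpowers_le.2 ht)).2 (Or.inr ⟨f, hf, rfl⟩)))) i).eq
    have hlt' : Nat.card (S.centF (zpowers d)) + 1 < Nat.card Ω := by
      rw [← S.card_fixed hb (zpowers_le.2 hd), Nat.card_coe_set_eq, ← Set.ncard_univ]
      refine Set.ncard_lt_ncard (Set.ssubset_univ_iff.2 fun e => hd1 ?_)
      exact S.faithful d fun x => (e ▸ Set.mem_univ x : x ∈ fixedPoints (zpowers d) Ω) ⟨d, mem_zpowers d⟩
    obtain ⟨hq, -, -⟩ := S.sub_concl IH hb (zpowers_le.2 hd) hzA hz2 hza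
      (fun e he => (mem_centralizer_singleton_iff.1 (zpowers_le.2 (mem_centralizer_singleton_iff.2
        hzd.symm) he)).symm) hlt' h1
    rcases (Nat.dvd_prime hq).1 (Subgroup.card_dvd_of_le hsub) with h | h
    · omega
    · have heq := Subgroup.eq_of_le_of_card_ge hsub h.ge
      have : y ∈ F₁ := mem_subgroupOf.2 (heq ▸ hyE)
      exact hy1 ((Subgroup.eq_bot_iff_forall _).1 hinter y ⟨hy, this⟩)
  -- `|D|` divides `j (P + 1)`
  have hDdvd : Nat.card (pt2 G Ω S.a b) ∣ j * (P + 1) := by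
    have hact : ∀ d : ↥(pt2 G Ω S.a b), ∀ y : ↥S.F, y ∈ θ.ker →
        (⟨(d : G) * y * (d : G)⁻¹, S.F_normalised (mem_pt2.1 d.2).1 y.2⟩ : ↥S.F) ∈ θ.ker := by
      intro d y hy
      rw [MonoidHom.mem_ker, ← Subtype.coe_inj, S.theta_apply, OneMemClass.coe_one] at hy ⊢
      have hc : t * (d : G) = d * t := S.pt2_comm hb.symm ht d.2
      calc (d : G) * y * (d : G)⁻¹ * (t * ((d : G) * y * (d : G)⁻¹) * t⁻¹)
          = (d : G) * y * (d : G)⁻¹ * ((t * d) * y * ((d : G)⁻¹ * t⁻¹)) := by group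
        _ = (d : G) * y * (d : G)⁻¹ * ((d * t) * y * ((d : G)⁻¹ * t⁻¹)) := by rw [hc]
        _ = (d : G) * y * t * y * (t * d)⁻¹ := by group
        _ = (d : G) * y * t * y * (d * t)⁻¹ := by rw [hc]
        _ = (d : G) * ((y : G) * (t * y * t⁻¹)) * (d : G)⁻¹ := by group
        _ = 1 := by rw [hy]; group
    letI : MulAction ↥(pt2 G Ω S.a b) {y : ↥θ.ker // y ≠ 1} :=
      { smul := fun d y => ⟨⟨_, hact d y.1.1 y.1.2⟩, fun e => y.2 (Subtype.ext (Subtype.ext (by
          have h := congrArg (fun w : ↥θ.ker => ((w : ↥S.F) : G)) e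
          simpa [mul_inv_eq_one] using h)))⟩
        one_smul := fun y => Subtype.ext (Subtype.ext (Subtype.ext (by
          show ((1 : ↥(pt2 G Ω S.a b)) : G) * _ * _ = _
          simp)))
        mul_smul := fun d e y => Subtype.ext (Subtype.ext (Subtype.ext (by
          show ((d * e : ↥(pt2 G Ω S.a b)) : G) * _ * _ = (d : G) * ((e : G) * _ * _) * _
          simp [mul_assoc]))) }
    have hst : ∀ y : {y : ↥θ.ker // y ≠ 1}, stabilizer ↥(pt2 G Ω S.a b) y = ⊥ := by
      intro y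
      rw [Subgroup.eq_bot_iff_forall]
      intro d hd
      by_contra hd1
      have h : (d : G) * ((y.1 : ↥S.F) : G) * (d : G)⁻¹ = ((y.1 : ↥S.F) : G) :=
        congrArg (fun w : {y : ↥θ.ker // y ≠ 1} => (((w : ↥θ.ker) : ↥S.F) : G))
          (mem_stabilizer_iff.1 hd)
      exact y.2 (Subtype.ext (hfree d d.2 (fun e => hd1 (Subtype.ext e)) _ y.1.2
        (mul_inv_eq_iff_eq_mul.1 h)))
    have hcard : Nat.card {y : ↥θ.ker // y ≠ 1} = j * (P + 1) := by
      letI := Fintype.ofFinite ↥θ.ker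
      rw [Nat.card_eq_fintype_card, Fintype.card_subtype_compl, Fintype.card_subtype_eq,
        ← Nat.card_eq_fintype_card, hker, Nat.add_sub_cancel_left]
    letI := Fintype.ofFinite (MulAction.orbitRel.Quotient ↥(pt2 G Ω S.a b) {y : ↥θ.ker // y ≠ 1})
    rw [← hcard, Nat.card_congr (MulAction.selfEquivSigmaOrbits' ↥(pt2 G Ω S.a b) {y : ↥θ.ker // y ≠ 1}),
      Nat.card_sigma]
    refine Finset.dvd_sum fun ω _ => ?_
    obtain ⟨y, rfl⟩ := Quotient.exists_rep ω
    have h1 := Nat.card_congr (MulAction.orbitEquivQuotientStabilizer ↥(pt2 G Ω S.a b) y)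
    rw [hst, ← Nat.card_congr (Equiv.refl (↥(pt2 G Ω S.a b) ⧸ ⊥))] at h1
    rw [MulAction.orbitRel.Quotient.orbit_mk]
    rw [h1, ← Subgroup.index_eq_card, Subgroup.index_bot]
  refine ⟨P, j, hPp, rfl, hhalf, hn, hFc, hDeq, fun d hd hd1 => ?_, ?_, hkern, fun k hk => ?_⟩
  · -- a centraliser in `F` meeting the inverted part is trivial
    set L := (S.centF (zpowers d)).subgroupOf S.F
    have hL : Nat.card L = Nat.card (S.centF (zpowers d)) :=
      Nat.card_congr (subgroupOfEquivOfLe (inf_le_left : S.centF (zpowers d) ≤ S.F)).toEquiv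
    have hcop : Nat.Coprime (Nat.card L) (1 + j * (P + 1)) := by
      refine Nat.coprime_of_dvd' fun q hq hqL hqm => ?_
      exfalso
      haveI := Fact.mk hq
      obtain ⟨y, hy⟩ := exists_prime_orderOf_dvd_card' (G := ↥L) q hqL
      obtain ⟨x, hx⟩ := exists_prime_orderOf_dvd_card' (G := ↥θ.ker) q (hker ▸ hqm)
      rw [← orderOf_coe] at hy hx
      have h := eq_of_card_eq_cyclic (H := zpowers (y : ↥S.F)) (K := zpowers (x : ↥S.F))
        (by rw [Nat.card_zpowers, Nat.card_zpowers, hy, hx])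
      have hxL : (x : ↥S.F) ∈ L := zpowers_le.2 y.2 (h.symm ▸ mem_zpowers _)
      have := hfree d hd hd1 _ x.2 (mem_centralizer_iff.1 (mem_subgroupOf.1 hxL).2 d (mem_zpowers d))
      rw [this, orderOf_one] at hx
      exact hq.one_lt.ne hx
    have hdvd : Nat.card L ∣ P := hcop.dvd_of_dvd_mul_right (hFc ▸ Subgroup.card_subgroup_dvd_card L)
    rw [hL] at hdvd
    exact (Nat.dvd_prime hPp).1 hdvd
  · have h := hDdvd
    rw [hDeq, mul_comm j] at h
    exact Nat.dvd_of_mul_dvd_mul_right hj h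
  · have hkK : k = K := by
      ext d
      rw [hk, hKm]
    rw [hkK, hr, mul_comm]

end Setting

end CfsgLib.Perm.CycStab
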