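import Cfsg.Agent.Lib.Perm.CycStab.Basic

/-!
# The two point stabiliser contains an odd permutation

The regular cyclic subgroup gives an odd permutation, and the point stabiliser is maximal.
-/

set_option autoImplicit false
set_option linter.unusedSectionVars false

namespace CfsgLib.Perm.CycStab

open Subgroup MulAction

namespace Setting

variable {G Ω : Type*} [Group G] [Finite G] [MulAction G Ω] [Fintype Ω] [DecidableEq Ω]
  (S : Setting G Ω)

/-- The sign of a group element acting on the points. -/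
def sgn : G →* ℤˣ := Equiv.Perm.sign.comp (MulAction.toPermHom G Ω)

omit [Finite G] in
theorem sgn_apply (g : G) : sgn (Ω := Ω) g = Equiv.Perm.sign (MulAction.toPerm g : Equiv.Perm Ω) :=
  rfl

omit [Finite G] in
theorem sgn_eq_one_of_odd {g : G} (h : Odd (orderOf g)) : sgn (Ω := Ω) g = 1 := by
  rcases Int.units_eq_one_or (sgn (Ω := Ω) g) with h1 | h1
  · exact h1
  · exfalso
    have := map_pow (sgn (Ω := Ω)) g (orderOf g)
    rw [pow_orderOf_eq_one, map_one, h1, h.neg_one_pow] at this
    exact absurd this (by decide)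

include S in
/-- A generator of the regular cyclic subgroup is an odd permutation in even degree. -/
theorem exists_odd (heven : Even (Nat.card Ω)) : ∃ g : G, sgn (Ω := Ω) g = -1 := by
  haveI := S.A_cyc
  obtain ⟨⟨g, hgA⟩, hg⟩ := IsCyclic.exists_generator (α := ↥S.A)
  have hcard : 2 ≤ Nat.card Ω := by
    obtain ⟨k, hk⟩ := heven
    haveI : Nonempty Ω := ⟨S.a⟩
    have : 0 < Nat.card Ω := Nat.card_pos
    omega
  refine ⟨g, ?_⟩
  have hne : ∀ x : Ω, (MulAction.toPerm g : Equiv.Perm Ω) x ≠ x := by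
    intro x hx
    have h1 : g = 1 := S.A_free g hgA x hx
    subst h1
    have : Subsingleton ↥S.A := ⟨fun u v => by
      obtain ⟨i, hi⟩ := Subgroup.mem_zpowers_iff.1 (hg u)
      obtain ⟨k, hk⟩ := Subgroup.mem_zpowers_iff.1 (hg v)
      rw [← hi, ← hk]
      ext
      simp⟩
    have h2 := Nat.card_congr S.equivA
    rw [Nat.card_of_subsingleton (α := ↥S.A) 1] at h2
    omega
  have hcyc : Equiv.Perm.IsCycle (MulAction.toPerm g : Equiv.Perm Ω) := by
    refine ⟨S.a, hne _, fun y _ => ?_⟩
    obtain ⟨u, hu, hua⟩ := S.A_trans y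
    obtain ⟨i, hi⟩ := Subgroup.mem_zpowers_iff.1 (hg ⟨u, hu⟩)
    refine ⟨i, ?_⟩
    have hgi : g ^ i = u := by simpa using congrArg Subtype.val hi
    have : (MulAction.toPerm g : Equiv.Perm Ω) ^ i = MulAction.toPerm (g ^ i) :=
      (map_zpow (MulAction.toPermHom G Ω) g i).symm
    rw [this, hgi]
    exact hua
  rw [sgn_apply, hcyc.sign]
  have hs : (MulAction.toPerm g : Equiv.Perm Ω).support = Finset.univ :=
    Finset.eq_univ_iff_forall.2 fun x => Equiv.Perm.mem_support.2 (hne x)
  rw [hs, Finset.card_univ, ← Nat.card_eq_fintype_card, heven.neg_one_pow]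

include S in
theorem odd_card_F (heven : Even (Nat.card Ω)) {b : Ω} (hb : b ≠ S.a) : Odd (Nat.card S.F) := by
  have := S.card_F hb
  rw [← Nat.not_even_iff_odd]
  intro h
  exact absurd (this ▸ heven) (Nat.not_even_iff_odd.2 h.add_one)

include S in
/-- The two point stabiliser contains an odd permutation. -/
theorem exists_odd_pt2 (heven : Even (Nat.card Ω)) (hn : 2 < Nat.card Ω) {b : Ω} (hb : b ≠ S.a) :
    ∃ d ∈ pt2 G Ω S.a b, sgn (Ω := Ω) d = -1 := by
  by_contra hc
  push Not at hc
  have hH : ∀ h : G, h • S.a = S.a → sgn (Ω := Ω) h = 1 := by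
    intro h hh
    obtain ⟨f, hf, d, hd, rfl⟩ := S.exists_F_mul hb hh
    rw [map_mul, sgn_eq_one_of_odd, one_mul]
    · exact (Int.units_eq_one_or _).resolve_right (hc d hd)
    · exact (S.odd_card_F heven hb).of_dvd_nat ((Subgroup.orderOf_mk _ hf ▸ orderOf_dvd_natCard (⟨f, hf⟩ : ↥S.F)))
  obtain ⟨g, hg⟩ := S.exists_odd heven
  have hga : g • S.a ≠ S.a := fun e => by
    have := hH g e
    rw [hg] at this
    exact absurd this (by decide)
  obtain ⟨c, hca, hcy⟩ : ∃ c : Ω, c ≠ S.a ∧ c ≠ g • S.a := by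
    by_contra h
    push Not at h
    have hsub : (Finset.univ : Finset Ω) ⊆ {S.a, g • S.a} := by
      intro x _
      by_cases hx : x = S.a
      · simp [hx]
      · simp [h x hx]
    have h1 := Finset.card_le_card hsub
    rw [Finset.card_univ, Finset.card_pair hga.symm, ← Nat.card_eq_fintype_card] at h1
    omega
  obtain ⟨h, hha, hhc⟩ := S.two hca.symm hcy.symm
  -- `h` fixes `c`, so it is even
  obtain ⟨k, hkc, -⟩ := S.two hca hb.symm
  have h1 : sgn (Ω := Ω) h = 1 := by
    have := hH (k * h * k⁻¹) (by rw [mul_smul, mul_smul, inv_smul_eq_iff.2 hkc.symm, hhc, hkc])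
    rwa [map_mul, map_mul, map_inv, mul_comm, ← mul_assoc, inv_mul_cancel, one_mul] at this
  have h2 := hH (h⁻¹ * g) (by rw [mul_smul, inv_smul_eq_iff, hha])
  rw [map_mul, map_inv, h1, inv_one, one_mul, hg] at h2
  exact absurd h2 (by decide)

include S in
/-- The two point stabiliser has even order. -/
theorem even_pt2 (heven : Even (Nat.card Ω)) (hn : 2 < Nat.card Ω) {b : Ω} (hb : b ≠ S.a) :
    Even (Nat.card (pt2 G Ω S.a b)) := by
  obtain ⟨d, hd, hs⟩ := S.exists_odd_pt2 heven hn hb
  rw [← Nat.not_odd_iff_even]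
  intro ho
  rw [sgn_eq_one_of_odd (ho.of_dvd_nat ((Subgroup.orderOf_mk _ hd ▸ orderOf_dvd_natCard (⟨d, hd⟩ : ↥(pt2 G Ω S.a b)))))] at hs
  exact absurd hs (by decide)

end Setting

end CfsgLib.Perm.CycStab
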