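import Cfsg.Agent.Lib.Perm.CycStab.Swap

/-!
# The induced setting on the fixed points of a subgroup of `C_D(z)`

The normaliser of `E` acts doubly transitively on `Fix E`, and `A ∩ N(E)` is regular there.
-/

set_option autoImplicit false
set_option linter.unusedSectionVars false

namespace CfsgLib.Perm.CycStab

open Subgroup MulAction

universe u

/-- The conclusion of the core theorem. -/
def Concl {G Ω : Type u} [Group G] [MulAction G Ω] (S : Setting G Ω) : Prop :=
  ∃ p : ℕ, p.Prime ∧ Nat.card Ω = p + 1 ∧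
    (∀ b : Ω, b ≠ S.a → Nat.card (pt2 G Ω S.a b) = p - 1) ∧
    ∀ z ∈ S.A, orderOf z = 2 → ∀ d ∈ pt2 G Ω S.a (z • S.a), z * d = d * z → d * d = 1

/-- The induction hypothesis. -/
def CoreBelow (N : ℕ) : Prop :=
  ∀ {G Ω : Type u} [Group G] [Finite G] [MulAction G Ω] [Fintype Ω] [DecidableEq Ω]
    (S : Setting G Ω), Nat.card Ω < N → Even (Nat.card Ω) → 2 < Nat.card Ω → Concl S

variable {G Ω : Type u} [Group G] [Finite G] [MulAction G Ω] [Fintype Ω] [DecidableEq Ω]

/-- `Fix E` as a set invariant under the normaliser. -/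
def fixSub (E : Subgroup G) : SubMulAction ↥(normalizer (E : Set G)) Ω where
  carrier := fixedPoints E Ω
  smul_mem' g x hx := by
    rintro ⟨e, he⟩
    have he' : (g : G)⁻¹ * e * g ∈ E := by
      have := mem_normalizer_iff.1 (inv_mem g.2) e
      simpa using this.1 he
    have h := hx ⟨_, he'⟩
    simp only [Subgroup.smul_def] at h ⊢
    rw [mul_smul, mul_smul, inv_smul_eq_iff] at h
    exact h

/-- The group induced by `N(E)` on `Fix E`. -/
noncomputable abbrev indGrp (E : Subgroup G) : Subgroup (Equiv.Perm ↥(fixSub (Ω := Ω) E)) :=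
  (MulAction.toPermHom ↥(normalizer (E : Set G)) ↥(fixSub (Ω := Ω) E)).range

/-- The projection `N(E) → indGrp E`. -/
noncomputable def indHom (E : Subgroup G) :
    ↥(normalizer (E : Set G)) →* ↥(indGrp (Ω := Ω) E) :=
  (MulAction.toPermHom ↥(normalizer (E : Set G)) ↥(fixSub (Ω := Ω) E)).rangeRestrict

theorem indHom_surjective (E : Subgroup G) : Function.Surjective (indHom (Ω := Ω) E) :=
  MonoidHom.rangeRestrict_surjective _

theorem indHom_smul {E : Subgroup G} (g : ↥(normalizer (E : Set G))) (x : ↥(fixSub (Ω := Ω) E)) :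
    ((indHom (Ω := Ω) E g • x : ↥(fixSub (Ω := Ω) E)) : Ω) = (g : G) • (x : Ω) := rfl

theorem isCyclic_map_subgroupOf {H : Type*} [Group H] {N : Subgroup G} (φ : ↥N →* H)
    {K : Subgroup G} (hK : IsCyclic ↥K) : IsCyclic ↥((K.subgroupOf N).map φ) := by
  haveI : IsCyclic ↥(K.subgroupOf N) :=
    isCyclic_of_injective ((N.subtype.comp (K.subgroupOf N).subtype).codRestrict K fun x => x.2)
      fun x y h => Subtype.ext (Subtype.ext (congrArg (fun k : ↥K => (k : G)) h))
  exact isCyclic_of_surjective (φ.subgroupMap (K.subgroupOf N)) (φ.subgroupMap_surjective _)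

namespace Setting

variable (S : Setting G Ω) {E : Subgroup G} {b : Ω} {z : G}

include S in
theorem mem_fixSub {x : Ω} (hx : x ∈ fixedPoints E Ω) {e : G} (he : e ∈ E) : e • x = x := hx ⟨e, he⟩

/-- The setting induced on `Fix E`. -/
noncomputable def sub (hb : b ≠ S.a) (hE : E ≤ pt2 G Ω S.a b) (hzA : z ∈ S.A) (hza : z • S.a = b)
    (hzE : ∀ e ∈ E, z * e = e * z) : Setting ↥(indGrp (Ω := Ω) E) ↥(fixSub (Ω := Ω) E) where
  faithful g hg := Subtype.ext (Equiv.ext fun x => hg x)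
  two := by
    intro x y x' y' hxy hxy'
    have hxy0 : (x : Ω) ≠ y := fun e => hxy (Subtype.ext e)
    have hxy0' : (x' : Ω) ≠ y' := fun e => hxy' (Subtype.ext e)
    obtain ⟨g, hg, h1, h2⟩ := S.two_on_fixed hxy0 hxy0'
      (fun e he => mem_pt2.2 ⟨S.mem_fixSub x.2 he, S.mem_fixSub y.2 he⟩)
      (fun e he => mem_pt2.2 ⟨S.mem_fixSub x'.2 he, S.mem_fixSub y'.2 he⟩)
    exact ⟨indHom E ⟨g, hg⟩, Subtype.ext h1, Subtype.ext h2⟩
  a := ⟨S.a, (S.mem_fixed_iff hb hE).2 (Or.inl rfl)⟩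
  A := (S.A.subgroupOf (normalizer (E : Set G))).map (indHom E)
  A_cyc := isCyclic_map_subgroupOf _ S.A_cyc
  A_free := by
    intro g hg x hx
    obtain ⟨u, hu, rfl⟩ := mem_map.1 hg
    have h1 : (u : G) = 1 := S.A_free _ hu x (by rw [← indHom_smul, hx])
    rw [show u = 1 from Subtype.ext h1, map_one]
  A_trans := by
    intro x
    obtain ⟨g, hg, hgx⟩ := S.A_trans x
    have hgz : z * g = g * z := by
      haveI := S.A_cyc
      letI := IsCyclic.commGroup (α := ↥S.A)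
      exact congrArg Subtype.val (mul_comm (⟨z, hzA⟩ : ↥S.A) ⟨g, hg⟩)
    have hgN : g ∈ normalizer (E : Set G) := by
      have hle : E.map (MulAut.conj g⁻¹).toMonoidHom ≤ pt2 G Ω S.a b := by
        rintro _ ⟨e, he, rfl⟩
        have hx' : e • g • S.a = g • S.a := by rw [hgx]; exact S.mem_fixSub x.2 he
        have h0 : (g⁻¹ * e * g) • S.a = S.a := by rw [mul_smul, mul_smul, hx', inv_smul_smul]
        have hzc : z * (g⁻¹ * e * g) = (g⁻¹ * e * g) * z := by
          have c0 : g⁻¹ * z = z * g⁻¹ := (Commute.inv_left (Commute.symm hgz)).eq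
          calc z * (g⁻¹ * e * g) = (z * g⁻¹) * e * g := by group
            _ = g⁻¹ * (z * e) * g := by rw [← c0]; group
            _ = g⁻¹ * e * (z * g) := by rw [hzE e he]; group
            _ = (g⁻¹ * e * g) * z := by rw [hgz]; group
        simp only [MulEquiv.coe_toMonoidHom, MulAut.conj_apply, inv_inv]
        exact mem_pt2.2 ⟨h0, by rw [← hza, ← mul_smul, ← hzc, mul_smul, h0]⟩
      have := eq_of_card_eq_le (S.D_cyc hb.symm) hle hE
        (Nat.card_congr (E.equivMapOfInjective _ (MulAut.conj g⁻¹).injective).toEquiv).symm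
      have h2 : g⁻¹ ∈ normalizer (E : Set G) := by
        rw [mem_normalizer_iff_map_conj_eq]; exact this
      simpa using inv_mem h2
    exact ⟨indHom E ⟨g, hgN⟩, mem_map_of_mem _ hg, Subtype.ext hgx⟩
  F := (S.F.subgroupOf (normalizer (E : Set G))).map (indHom E)
  F_le := by
    rintro _ ⟨f, hf, rfl⟩
    exact Subtype.ext (S.F_smul_a hf)
  F_conj := by
    rintro h hh _ ⟨f, hf, rfl⟩
    obtain ⟨u, rfl⟩ := indHom_surjective E h
    refine ⟨u * f * u⁻¹, ?_, by rw [map_mul, map_mul, map_inv]⟩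
    exact S.F_conj (u : G) (congrArg Subtype.val hh) (f : G) hf
  F_cyc := isCyclic_map_subgroupOf _ S.F_cyc
  F_free := by
    intro f hf x hx hfx
    obtain ⟨u, hu, rfl⟩ := mem_map.1 hf
    have h1 : (u : G) = 1 := S.F_free _ hu x (fun e => hx (Subtype.ext e)) (by rw [← indHom_smul, hfx])
    rw [show u = 1 from Subtype.ext h1, map_one]
  F_trans := by
    intro x y hx hy
    obtain h | ⟨f₁, hf₁, h1⟩ := (S.mem_fixed_iff hb hE).1 x.2
    · exact absurd (Subtype.ext h) hx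
    obtain h | ⟨f₂, hf₂, h2⟩ := (S.mem_fixed_iff hb hE).1 y.2
    · exact absurd (Subtype.ext h) hy
    have hm := mul_mem hf₂ (inv_mem hf₁)
    have hN : f₂ * f₁⁻¹ ∈ normalizer (E : Set G) := centralizer_le_normalizer (E : Set G) hm.2
    refine ⟨indHom E ⟨_, hN⟩, mem_map_of_mem _ hm.1, Subtype.ext ?_⟩
    show (f₂ * f₁⁻¹) • (x : Ω) = y
    rw [← h1, mul_smul, inv_smul_smul, h2]
  D_cyc := by
    intro x y hxy
    haveI := isCyclic_map_subgroupOf (indHom (Ω := Ω) E)
      (S.D_cyc (x := (x : Ω)) (y := (y : Ω)) fun e => hxy (Subtype.ext e))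
    refine Subgroup.isCyclic_of_le
      (H' := ((pt2 G Ω (x : Ω) y).subgroupOf (normalizer (E : Set G))).map (indHom E)) ?_
    intro g hg
    obtain ⟨u, rfl⟩ := indHom_surjective E g
    exact mem_map_of_mem _ (mem_pt2.2
      ⟨congrArg Subtype.val (mem_pt2.1 hg).1, congrArg Subtype.val (mem_pt2.1 hg).2⟩)

include S in
/-- What the induction hypothesis says about `Fix E`. -/
theorem sub_concl {N : ℕ} (IH : CoreBelow.{u} N) (hb : b ≠ S.a) (hE : E ≤ pt2 G Ω S.a b)
    (hzA : z ∈ S.A) (hz2 : orderOf z = 2) (hza : z • S.a = b) (hzE : ∀ e ∈ E, z * e = e * z)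
    (hlt : Nat.card (S.centF E) + 1 < N) (hgt : 1 < Nat.card (S.centF E)) :
    (Nat.card (S.centF E)).Prime ∧
    (∀ k : Subgroup G, (∀ d, d ∈ k ↔ d ∈ pt2 G Ω S.a b ∧ ∀ x ∈ fixedPoints E Ω, d • x = x) →
      Nat.card (pt2 G Ω S.a b) = Nat.card k * (Nat.card (S.centF E) - 1)) ∧
    ∀ d ∈ pt2 G Ω S.a b, z * d = d * z → ∀ x ∈ fixedPoints E Ω, (d * d) • x = x := by
  classical
  have hcard : Nat.card ↥(fixSub (Ω := Ω) E) = Nat.card (S.centF E) + 1 := S.card_fixed hb hE
  have hzN : z ∈ normalizer (E : Set G) :=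
    centralizer_le_normalizer (E : Set G) (mem_centralizer_iff.2 fun e he => (hzE e he).symm)
  let S' := S.sub hb hE hzA hza hzE
  have hb2 : (⟨b, (S.mem_fixed_iff hb hE).2 (Or.inr ⟨1, one_mem _, one_smul _ _⟩)⟩ :
      ↥(fixSub (Ω := Ω) E)) ≠ S'.a := fun e => hb (congrArg Subtype.val e)
  set z' := indHom (Ω := Ω) E ⟨z, hzN⟩
  have hz'A : z' ∈ S'.A := mem_map_of_mem _ hzA
  have hz'2 : orderOf z' = 2 := by
    have h1 : z' ≠ 1 := fun e => by
      have h := congrArg (fun g => ((g • S'.a : ↥(fixSub (Ω := Ω) E)) : Ω)) e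
      simp only [one_smul] at h
      change z • S.a = S.a at h
      exact hb (hza ▸ h)
    have h2 : z' ^ 2 = 1 := by
      rw [← map_pow, show (⟨z, hzN⟩ : ↥(normalizer (E : Set G))) ^ 2 = 1 from
        Subtype.ext (by simp [← hz2, pow_orderOf_eq_one]), map_one]
    exact orderOf_eq_prime h2 h1
  have heven : Even (Nat.card ↥(fixSub (Ω := Ω) E)) := by
    rw [← S'.card_A, even_iff_two_dvd, ← hz'2]
    exact Subgroup.orderOf_mk z' hz'A ▸ orderOf_dvd_natCard (⟨z', hz'A⟩ : ↥S'.A)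
  obtain ⟨p, hp, hcp, hD, hC⟩ := IH S' (hcard ▸ hlt) heven (hcard ▸ by omega)
  have hpe : p = Nat.card (S.centF E) := by omega
  have hDN : ∀ d ∈ pt2 G Ω S.a b, d ∈ normalizer (E : Set G) := fun d hd =>
    centralizer_le_normalizer (E : Set G) (mem_centralizer_iff.2 fun e he => S.pt2_comm hb.symm (hE he) hd)
  refine ⟨hpe ▸ hp, fun k hk => ?_, fun d hd hzd => ?_⟩
  · rw [← hpe, ← hD _ hb2]
    have him : ∀ d : ↥(pt2 G Ω S.a b), indHom (Ω := Ω) E ⟨d, hDN d d.2⟩ ∈
        pt2 ↥(indGrp (Ω := Ω) E) _ S'.a (⟨b, (S.mem_fixed_iff hb hE).2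
          (Or.inr ⟨1, one_mem _, one_smul _ _⟩)⟩ : ↥(fixSub (Ω := Ω) E)) := fun d =>
      mem_pt2.2 ⟨Subtype.ext (mem_pt2.1 d.2).1, Subtype.ext (mem_pt2.1 d.2).2⟩
    let φ : ↥(pt2 G Ω S.a b) →* ↥(pt2 ↥(indGrp (Ω := Ω) E) _ S'.a
        (⟨b, (S.mem_fixed_iff hb hE).2 (Or.inr ⟨1, one_mem _, one_smul _ _⟩)⟩ :
          ↥(fixSub (Ω := Ω) E))) :=
      ((indHom (Ω := Ω) E).comp (Subgroup.inclusion hDN)).codRestrict _ him
    have hsurj : Function.Surjective φ := by
      rintro ⟨g, hg⟩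
      obtain ⟨u, rfl⟩ := indHom_surjective E g
      exact ⟨⟨u, mem_pt2.2 ⟨congrArg Subtype.val (mem_pt2.1 hg).1,
        congrArg Subtype.val (mem_pt2.1 hg).2⟩⟩, rfl⟩
    have hker : φ.ker = k.subgroupOf (pt2 G Ω S.a b) := by
      ext d
      rw [MonoidHom.mem_ker, mem_subgroupOf, hk]
      constructor
      · intro h
        refine ⟨d.2, fun x hx => ?_⟩
        have h1 := congrArg (fun e => ((e.1 • (⟨x, hx⟩ : ↥(fixSub (Ω := Ω) E)) :
          ↥(fixSub (Ω := Ω) E)) : Ω)) h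
        simp only [OneMemClass.coe_one, one_smul] at h1
        exact h1
      · intro h
        exact Subtype.ext (Subtype.ext (Equiv.ext fun x => Subtype.ext (h.2 x x.2)))
    have h1 := Subgroup.card_mul_index φ.ker
    rw [Subgroup.index_ker, MonoidHom.range_eq_top.2 hsurj, card_top, hker,
      Nat.card_congr (subgroupOfEquivOfLe (fun d hd => ((hk d).1 hd).1)).toEquiv] at h1
    exact h1.symm
  · intro x hx
    have h := hC z' hz'A hz'2 (indHom E ⟨d, hDN d hd⟩)
      (mem_pt2.2 ⟨Subtype.ext (mem_pt2.1 hd).1, Subtype.ext (by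
        show d • z • S.a = z • S.a
        rw [hza]; exact (mem_pt2.1 hd).2)⟩)
      (by rw [← map_mul, ← map_mul]; exact congrArg _ (Subtype.ext hzd))
    rw [← map_mul] at h
    have h1 := congrArg (fun e => ((e • (⟨x, hx⟩ : ↥(fixSub (Ω := Ω) E)) :
      ↥(fixSub (Ω := Ω) E)) : Ω)) h
    simpa [indHom_smul] using h1

end Setting

end CfsgLib.Perm.CycStab
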