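import Cfsg.Agent.Lib.Perm.CycStab.Parity

/-!
# Counting swappers

`z` is the involution of the regular cyclic subgroup and `b = z • a`.  With `j` the order of the
image of `d ↦ z d z⁻¹ d⁻¹` on `D = G_ab` and `f` the number of fixed points of the involution of
`D`, one has `n = f + j f (f - 1)`.
-/

set_option autoImplicit false
set_option linter.unusedSectionVars false

namespace CfsgLib.Perm.CycStab

open Subgroup MulAction Finset

namespace Setting

variable {G Ω : Type*} [Group G] [Finite G] [MulAction G Ω] [Fintype Ω] [DecidableEq Ω]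
  (S : Setting G Ω)

include S in
theorem exists_z (heven : Even (Nat.card Ω)) : ∃ z ∈ S.A, orderOf z = 2 := by
  haveI : Fact (Nat.Prime 2) := ⟨Nat.prime_two⟩
  obtain ⟨z, hz⟩ := exists_prime_orderOf_dvd_card' (G := ↥S.A) 2 (S.card_A ▸ heven.two_dvd)
  exact ⟨z, z.2, by rwa [orderOf_coe]⟩

include S in
theorem exists_t (heven : Even (Nat.card Ω)) (hn : 2 < Nat.card Ω) {b : Ω} (hb : b ≠ S.a) :
    ∃ t ∈ pt2 G Ω S.a b, orderOf t = 2 := by
  haveI : Fact (Nat.Prime 2) := ⟨Nat.prime_two⟩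
  obtain ⟨t, ht⟩ := exists_prime_orderOf_dvd_card' (G := ↥(pt2 G Ω S.a b)) 2
    (S.even_pt2 heven hn hb).two_dvd
  exact ⟨t, t.2, by rwa [orderOf_coe]⟩

/-- An involution of a cyclic subgroup is unique. -/
theorem invol_unique {K : Subgroup G} (hK : IsCyclic ↥K) {u v : G} (hu : u ∈ K) (hv : v ∈ K)
    (hu2 : orderOf u = 2) (hv2 : orderOf v = 2) : u = v := by
  have h := eq_of_card_eq_le hK (zpowers_le.2 hu) (zpowers_le.2 hv)
    (by rw [Nat.card_zpowers, Nat.card_zpowers, hu2, hv2])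
  obtain ⟨i, hi⟩ := mem_zpowers_iff.1 (h ▸ mem_zpowers u : u ∈ zpowers v)
  rcases Int.even_or_odd i with ⟨k, hk⟩ | ⟨k, hk⟩
  · exfalso
    have hv' : v * v = 1 := by rw [← sq, ← hv2, pow_orderOf_eq_one]
    have : u = 1 := by
      rw [← hi, hk, ← two_mul, zpow_mul, zpow_two, hv', one_zpow]
    rw [this, orderOf_one] at hu2
    omega
  · have hv' : v * v = 1 := by rw [← sq, ← hv2, pow_orderOf_eq_one]
    rw [← hi, hk, zpow_add, zpow_mul, zpow_two, hv', one_zpow, one_mul, zpow_one]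

section

variable {b : Ω}

include S in
/-- An involution with a fixed point is conjugate to the involution of `D`. -/
theorem conj_of_fix (heven : Even (Nat.card Ω)) (hb : b ≠ S.a) {t : G}
    (ht : t ∈ pt2 G Ω S.a b) (ht2 : orderOf t = 2) {u : G} (hu : orderOf u = 2) {x : Ω}
    (hx : u • x = x) : ∃ g : G, g * u * g⁻¹ = t := by
  obtain ⟨y, hyx, hy⟩ : ∃ y, y ≠ x ∧ u • y = y := by
    by_contra h
    push Not at h
    have h1 := Equiv.Perm.card_compl_support_modEq (p := 2) (n := 1) (hp := ⟨Nat.prime_two⟩)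
      (σ := (MulAction.toPermHom G Ω u : Equiv.Perm Ω))
      (by rw [pow_one, ← map_pow, ← hu, pow_orderOf_eq_one, map_one])
    have h2 : (MulAction.toPermHom G Ω u : Equiv.Perm Ω).supportᶜ = {x} := by
      ext y
      simp only [Finset.mem_compl, Equiv.Perm.mem_support, MulAction.toPermHom_apply,
        MulAction.toPerm_apply, not_not, Finset.mem_singleton]
      exact ⟨fun e => by_contra fun hne => h y hne e, fun e => e ▸ hx⟩
    rw [h2, Finset.card_singleton, ← Nat.card_eq_fintype_card, Nat.ModEq,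
      Nat.even_iff.1 heven] at h1
    omega
  obtain ⟨g, hgx, hgy⟩ := S.two hyx.symm hb.symm
  refine ⟨g, invol_unique (S.D_cyc hb.symm) ?_ ht ?_ ht2⟩
  · exact mem_pt2.2 ⟨by rw [mul_smul, mul_smul, inv_smul_eq_iff.2 hgx.symm, hx, hgx],
      by rw [mul_smul, mul_smul, inv_smul_eq_iff.2 hgy.symm, hy, hgy]⟩
  · rw [← hu]
    exact MulEquiv.orderOf_eq (MulAut.conj g) u

/-- The involutions with fixed points. -/
noncomputable def fixInvols : Finset G := by
  classical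
  letI := Fintype.ofFinite G
  exact Finset.univ.filter (fun u => orderOf u = 2 ∧ ∃ x : Ω, u • x = x)

theorem mem_fixInvols {u : G} :
    u ∈ fixInvols (G := G) (Ω := Ω) ↔ orderOf u = 2 ∧ ∃ x : Ω, u • x = x := by
  simp [fixInvols]

/-- The involutions with fixed points exchanging two given points. -/
noncomputable def fixSwaps (x y : Ω) : Finset G := by
  classical
  exact (fixInvols (G := G) (Ω := Ω)).filter (fun u => u • x = y ∧ u • y = x)

theorem mem_fixSwaps {u : G} {x y : Ω} : u ∈ fixSwaps (G := G) x y ↔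
    (orderOf u = 2 ∧ ∃ x : Ω, u • x = x) ∧ u • x = y ∧ u • y = x := by
  simp [fixSwaps, mem_fixInvols]

theorem smul_smul_of_two {u : G} (hu : orderOf u = 2) (x : Ω) : u • u • x = x := by
  rw [← mul_smul, ← sq, ← hu, pow_orderOf_eq_one, one_smul]

include S in
theorem card_fixSwaps {x y x' y' : Ω} (hxy : x ≠ y) (hxy' : x' ≠ y') :
    (fixSwaps (G := G) x y).card = (fixSwaps (G := G) x' y').card := by
  obtain ⟨g, hgx, hgy⟩ := S.two hxy hxy'
  have hmem : ∀ (g : G) (x y x' y' : Ω), g • x = x' → g • y = y' → ∀ u ∈ fixSwaps (G := G) x y,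
      g * u * g⁻¹ ∈ fixSwaps (G := G) x' y' := by
    intro g x y x' y' hgx hgy u hu
    obtain ⟨⟨hu2, w, hw⟩, h1, h2⟩ := mem_fixSwaps.1 hu
    refine mem_fixSwaps.2 ⟨⟨(MulEquiv.orderOf_eq (MulAut.conj g) u).trans hu2, g • w, ?_⟩, ?_, ?_⟩
    · rw [mul_smul, mul_smul, inv_smul_smul, hw]
    · rw [mul_smul, mul_smul, inv_smul_eq_iff.2 hgx.symm, h1, hgy]
    · rw [mul_smul, mul_smul, inv_smul_eq_iff.2 hgy.symm, h2, hgx]
  refine Finset.card_nbij' (fun u => g * u * g⁻¹) (fun u => g⁻¹ * u * (g⁻¹)⁻¹)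
    (hmem g x y x' y' hgx hgy) (hmem g⁻¹ x' y' x y (inv_smul_eq_iff.2 hgx.symm)
      (inv_smul_eq_iff.2 hgy.symm)) (fun u _ => by simp [mul_assoc]) (fun u _ => by simp [mul_assoc])

include S in
/-- The double count. -/
theorem count (heven : Even (Nat.card Ω)) (hb : b ≠ S.a) {t : G} (ht : t ∈ pt2 G Ω S.a b)
    (ht2 : orderOf t = 2) {f : ℕ} (hf : Nat.card ↥(fixedPoints (zpowers t) Ω) = f) :
    Nat.card Ω - f = (fixSwaps (G := G) S.a b).card * (f * (f - 1)) := by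
  classical
  let fixS : G → Finset Ω := fun u => Finset.univ.filter (fun x => u • x = x)
  have hfix : ∀ u ∈ fixInvols (G := G) (Ω := Ω), (fixS u).card = f := by
    intro u hu
    obtain ⟨hu2, x, hx⟩ := mem_fixInvols.1 hu
    obtain ⟨g, hg⟩ := S.conj_of_fix heven hb ht ht2 hu2 hx
    rw [← hf]
    rw [← Nat.card_eq_finsetCard]
    refine Nat.card_congr
      { toFun := fun x => ⟨g • (x : Ω), ?_⟩
        invFun := fun x => ⟨g⁻¹ • (x : Ω), ?_⟩
        left_inv := fun x => Subtype.ext (inv_smul_smul g (x : Ω))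
        right_inv := fun x => Subtype.ext (smul_inv_smul g (x : Ω)) }
    · rintro ⟨e, he⟩
      obtain ⟨i, rfl⟩ := mem_zpowers_iff.1 he
      have hx' : t • g • (x : Ω) = g • (x : Ω) := by
        rw [← hg, mul_smul, mul_smul, inv_smul_smul, (Finset.mem_filter.1 x.2).2]
      exact MulAction.mem_stabilizer_iff.1 ((stabilizer G (g • (x : Ω))).zpow_mem hx' i)
    · refine Finset.mem_filter.2 ⟨Finset.mem_univ _, ?_⟩
      have h2 := x.2 ⟨t, mem_zpowers t⟩
      rw [Subgroup.smul_def] at h2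
      change t • (x : Ω) = (x : Ω) at h2
      rw [show t • (x : Ω) = (g * u * g⁻¹) • (x : Ω) by rw [hg], mul_smul, mul_smul] at h2
      rw [← inv_smul_smul g (u • g⁻¹ • (x : Ω)), h2]
  have hP : 0 < (Finset.univ : Finset Ω).offDiag.card :=
    Finset.card_pos.2 ⟨(S.a, b), Finset.mem_offDiag.2 ⟨Finset.mem_univ _, Finset.mem_univ _, hb.symm⟩⟩
  have e1 : (fixInvols (G := G) (Ω := Ω)).card * (f * (f - 1)) =
      (Finset.univ : Finset Ω).offDiag.card := by
    rw [← smul_eq_mul, ← Finset.sum_const]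
    rw [Finset.sum_congr rfl (fun u hu => show f * (f - 1) = (fixS u).offDiag.card by
      rw [Finset.offDiag_card, hfix u hu, Nat.mul_sub_left_distrib, mul_one]), ← Finset.card_sigma]
    refine Finset.card_bij (fun p _ => p.2) ?_ ?_ ?_
    · intro p hp
      obtain ⟨-, hp2⟩ := Finset.mem_sigma.1 hp
      exact Finset.mem_offDiag.2 ⟨Finset.mem_univ _, Finset.mem_univ _, (Finset.mem_offDiag.1 hp2).2.2⟩
    · rintro ⟨u, x, y⟩ hp ⟨u', x', y'⟩ hq h
      obtain ⟨rfl, rfl⟩ := Prod.mk.inj h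
      obtain ⟨hu, hxy⟩ := Finset.mem_sigma.1 hp
      obtain ⟨hu', hxy'⟩ := Finset.mem_sigma.1 hq
      obtain ⟨hx, hy, hne⟩ := Finset.mem_offDiag.1 hxy
      obtain ⟨hx', hy', -⟩ := Finset.mem_offDiag.1 hxy'
      have : u = u' := invol_unique (S.D_cyc hne)
        (mem_pt2.2 ⟨(Finset.mem_filter.1 hx).2, (Finset.mem_filter.1 hy).2⟩)
        (mem_pt2.2 ⟨(Finset.mem_filter.1 hx').2, (Finset.mem_filter.1 hy').2⟩)
        (mem_fixInvols.1 hu).1 (mem_fixInvols.1 hu').1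
      subst this
      rfl
    · rintro ⟨x, y⟩ hxy
      obtain ⟨g, hgx, hgy⟩ := S.two hb.symm (Finset.mem_offDiag.1 hxy).2.2
      have h1 : (g * t * g⁻¹) • x = x := by
        rw [mul_smul, mul_smul, inv_smul_eq_iff.2 hgx.symm, (mem_pt2.1 ht).1, hgx]
      have h2 : (g * t * g⁻¹) • y = y := by
        rw [mul_smul, mul_smul, inv_smul_eq_iff.2 hgy.symm, (mem_pt2.1 ht).2, hgy]
      exact ⟨⟨g * t * g⁻¹, x, y⟩, Finset.mem_sigma.2
        ⟨mem_fixInvols.2 ⟨(MulEquiv.orderOf_eq (MulAut.conj g) t).trans ht2, x, h1⟩,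
         Finset.mem_offDiag.2 ⟨by simp [fixS, h1], by simp [fixS, h2], (Finset.mem_offDiag.1 hxy).2.2⟩⟩,
        rfl⟩
  have e2 : (fixInvols (G := G) (Ω := Ω)).card * (Nat.card Ω - f) =
      (Finset.univ : Finset Ω).offDiag.card * (fixSwaps (G := G) S.a b).card := by
    rw [← smul_eq_mul, ← Finset.sum_const]
    rw [Finset.sum_congr rfl (fun u hu => show Nat.card Ω - f =
      (Finset.univ.filter (fun x => u • x ≠ x)).card by
        rw [← hfix u hu, Nat.card_eq_fintype_card, ← Finset.card_compl]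
        congr 1
        ext x
        simp [fixS]), ← Finset.card_sigma, ← smul_eq_mul, ← Finset.sum_const,
      Finset.sum_congr rfl (fun p hp => show (fixSwaps (G := G) S.a b).card =
        (fixSwaps (G := G) p.1 p.2).card from
          S.card_fixSwaps hb.symm (Finset.mem_offDiag.1 hp).2.2), ← Finset.card_sigma]
    refine Finset.card_bij (fun p _ => ⟨(p.2, p.1 • p.2), p.1⟩) ?_ ?_ ?_
    · intro p hp
      obtain ⟨hu, hx⟩ := Finset.mem_sigma.1 hp
      have hmv := (Finset.mem_filter.1 hx).2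
      exact Finset.mem_sigma.2 ⟨Finset.mem_offDiag.2 ⟨Finset.mem_univ _, Finset.mem_univ _, Ne.symm hmv⟩,
        mem_fixSwaps.2 ⟨mem_fixInvols.1 hu, rfl, smul_smul_of_two (mem_fixInvols.1 hu).1 _⟩⟩
    · rintro ⟨u, x⟩ _ ⟨u', x'⟩ _ h
      simp only [Sigma.mk.injEq, Prod.mk.injEq, heq_eq_eq] at h
      obtain ⟨⟨rfl, -⟩, rfl⟩ := h
      rfl
    · rintro ⟨⟨x, y⟩, u⟩ hp
      obtain ⟨hxy, hu⟩ := Finset.mem_sigma.1 hp
      obtain ⟨hu1, hux, -⟩ := mem_fixSwaps.1 hu
      change u • x = y at hux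
      refine ⟨⟨u, x⟩, Finset.mem_sigma.2 ⟨mem_fixInvols.2 hu1,
        Finset.mem_filter.2 ⟨Finset.mem_univ _, ?_⟩⟩, ?_⟩
      · show u • x ≠ x
        rw [hux]
        exact Ne.symm (Finset.mem_offDiag.1 hxy).2.2
      · simp [hux]
  have h0 : 0 < (fixInvols (G := G) (Ω := Ω)).card :=
    Finset.card_pos.2 ⟨t, mem_fixInvols.2 ⟨ht2, S.a, (mem_pt2.1 ht).1⟩⟩
  refine Nat.eq_of_mul_eq_mul_left h0 ?_
  rw [e2, ← e1]
  ring

end

include S in
theorem conjSwap_mem {b : Ω} (hb : b ≠ S.a) {z : G} (hza : z • S.a = b) (hzb : z • b = S.a)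
    {d : G} (hd : d ∈ pt2 G Ω S.a b) : z * d * z⁻¹ ∈ pt2 G Ω S.a b :=
  mem_pt2.2 ⟨by rw [mul_smul, mul_smul, inv_smul_eq_iff.2 hzb.symm, (mem_pt2.1 hd).2, hzb],
    by rw [mul_smul, mul_smul, inv_smul_eq_iff.2 hza.symm, (mem_pt2.1 hd).1, hza]⟩

/-- `d ↦ (z d z⁻¹) d⁻¹` on the two point stabiliser. -/
noncomputable def psi {b : Ω} (hb : b ≠ S.a) {z : G} (hza : z • S.a = b) (hzb : z • b = S.a) :
    ↥(pt2 G Ω S.a b) →* ↥(pt2 G Ω S.a b) :=
  MonoidHom.mk' (fun d : ↥(pt2 G Ω S.a b) =>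
      (⟨z * (d : G) * z⁻¹, S.conjSwap_mem hb hza hzb d.2⟩ : ↥(pt2 G Ω S.a b)) * d⁻¹)
    fun d e => by
      apply Subtype.ext
      have hc : (d : G)⁻¹ * (z * (e : G) * z⁻¹ * (e : G)⁻¹) =
          z * (e : G) * z⁻¹ * (e : G)⁻¹ * (d : G)⁻¹ :=
        S.pt2_comm hb.symm (inv_mem d.2) (mul_mem (S.conjSwap_mem hb hza hzb e.2) (inv_mem e.2))
      simp only [Subgroup.coe_mul, Subgroup.coe_inv, mul_inv_rev]
      calc z * ((d : G) * e) * z⁻¹ * ((e : G)⁻¹ * (d : G)⁻¹)
          = z * (d : G) * z⁻¹ * ((z * e * z⁻¹ * (e : G)⁻¹) * (d : G)⁻¹) := by group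
        _ = z * (d : G) * z⁻¹ * ((d : G)⁻¹ * (z * e * z⁻¹ * (e : G)⁻¹)) := by rw [hc]
        _ = z * (d : G) * z⁻¹ * (d : G)⁻¹ * (z * e * z⁻¹ * (e : G)⁻¹) := by group

theorem psi_apply {b : Ω} (hb : b ≠ S.a) {z : G} (hza : z • S.a = b) (hzb : z • b = S.a)
    (d : ↥(pt2 G Ω S.a b)) :
    ((S.psi hb hza hzb d : ↥(pt2 G Ω S.a b)) : G) = z * d * z⁻¹ * (d : G)⁻¹ := rfl

theorem mem_psi_ker {b : Ω} (hb : b ≠ S.a) {z : G} (hza : z • S.a = b) (hzb : z • b = S.a)
    (d : ↥(pt2 G Ω S.a b)) : d ∈ (S.psi hb hza hzb).ker ↔ z * (d : G) = d * z := by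
  rw [MonoidHom.mem_ker, ← Subtype.coe_inj, psi_apply, OneMemClass.coe_one, mul_inv_eq_one,
    mul_inv_eq_iff_eq_mul]

include S in
/-- `n = f + j f (f - 1)` with `j = |[D, z]|`. -/
theorem count_psi (heven : Even (Nat.card Ω)) {b : Ω} (hb : b ≠ S.a) {z : G} (hzA : z ∈ S.A)
    (hz2 : orderOf z = 2) (hza : z • S.a = b) (hzb : z • b = S.a) {t : G}
    (ht : t ∈ pt2 G Ω S.a b) (ht2 : orderOf t = 2) {f : ℕ}
    (hf : Nat.card ↥(fixedPoints (zpowers t) Ω) = f) :
    Nat.card Ω = f + Nat.card (S.psi hb hza hzb).range * (f * (f - 1)) := by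
  classical
  have hzz : z * z = 1 := by rw [← sq, ← hz2, pow_orderOf_eq_one]
  have hzi : z⁻¹ = z := inv_eq_of_mul_eq_one_left hzz
  set D := pt2 G Ω S.a b
  set ψ := S.psi hb hza hzb
  have hfle : f ≤ Nat.card Ω := hf ▸ Nat.card_le_card_of_injective _ Subtype.val_injective
  have hlt : f < Nat.card Ω := by
    refine lt_of_le_of_ne hfle fun e => ?_
    have : ∀ x : Ω, t • x = x := by
      intro x
      by_contra hx
      have hss : fixedPoints (zpowers t) Ω ⊂ Set.univ :=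
        (Set.ssubset_univ_iff).2 fun h => hx (by
          have := (h ▸ Set.mem_univ x : x ∈ fixedPoints (zpowers t) Ω) ⟨t, mem_zpowers t⟩
          exact this)
      have := Set.ncard_lt_ncard hss
      rw [Set.ncard_univ, ← Nat.card_coe_set_eq, hf, e] at this
      exact lt_irrefl _ this
    have h1 := S.faithful t this
    rw [h1, orderOf_one] at ht2
    omega
  have hcount := S.count heven hb ht ht2 hf
  -- swappers with fixed points, as elements of `D`
  let T : Set ↥D := {d | z * (d : G) ∈ fixSwaps (G := G) S.a b}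
  have hj : (fixSwaps (G := G) S.a b).card = T.ncard := by
    rw [← Set.ncard_coe_finset, ← Set.ncard_image_of_injective T
      (f := fun d : ↥D => z * (d : G)) (fun d e h => Subtype.ext (mul_left_cancel h))]
    congr 1
    ext u
    simp only [Finset.mem_coe, Set.mem_image, T, Set.mem_setOf_eq]
    constructor
    · intro hu
      obtain ⟨-, h1, h2⟩ := mem_fixSwaps.1 hu
      refine ⟨⟨z * u, mem_pt2.2 ⟨by rw [mul_smul, h1, hzb], by rw [mul_smul, h2, hza]⟩⟩, ?_, ?_⟩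
      · rwa [← mul_assoc, hzz, one_mul]
      · rw [← mul_assoc, hzz, one_mul]
    · rintro ⟨d, hd, rfl⟩
      exact hd
  -- the inverted elements
  let φ : ↥D →* ↥D := MonoidHom.mk' (fun d => ψ d * (d * d)) fun d e => by
    haveI := S.D_cyc hb.symm
    letI := IsCyclic.commGroup (α := ↥D)
    show ψ (d * e) * ((d * e) * (d * e)) = ψ d * (d * d) * (ψ e * (e * e))
    rw [map_mul]
    ac_rfl
  have hφ : ∀ d, ((φ d : ↥D) : G) = z * d * z * d := by
    intro d
    show (((ψ d : ↥D) : G)) * ((d : G) * d) = _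
    rw [S.psi_apply, hzi]
    group
  have hTφ : T ⊆ (φ.ker : Set ↥D) := by
    intro d hd
    rw [SetLike.mem_coe, MonoidHom.mem_ker, ← Subtype.coe_inj, hφ, OneMemClass.coe_one]
    have := (mem_fixSwaps.1 hd).1.1
    rw [show z * (d : G) * z * d = (z * d) ^ 2 by rw [sq]; group, ← this, pow_orderOf_eq_one]
  have hIφ : (ψ.range : Set ↥D) ⊆ φ.ker := by
    rintro _ ⟨d, rfl⟩
    rw [SetLike.mem_coe, MonoidHom.mem_ker, ← Subtype.coe_inj, hφ, S.psi_apply, OneMemClass.coe_one,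
      hzi]
    have hc : (d : G) * (z * d * z) = z * d * z * d := S.pt2_comm hb.symm d.2 (mem_pt2.2
        ⟨by rw [mul_smul, mul_smul, hza, (mem_pt2.1 d.2).2, hzb],
         by rw [mul_smul, mul_smul, hzb, (mem_pt2.1 d.2).1, hza]⟩)
    calc z * (z * ↑d * z * (↑d)⁻¹) * z * (z * ↑d * z * (↑d)⁻¹)
        = (z * z) * ↑d * (z * (↑d)⁻¹ * (z * z) * ↑d * z) * (↑d)⁻¹ := by group
      _ = 1 := by
          rw [hzz, one_mul, mul_one, show z * (↑d)⁻¹ * ↑d * z = z * z by group, hzz, mul_one,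
            mul_inv_cancel]
  have hIfree : ∀ d ∈ (ψ.range : Set ↥D), d ∉ T := by
    rintro _ ⟨d, rfl⟩ hd
    obtain ⟨⟨-, x, hx⟩, -⟩ := mem_fixSwaps.1 hd
    rw [S.psi_apply] at hx
    rw [show z * (z * (d : G) * z⁻¹ * (d : G)⁻¹) = d * z * (d : G)⁻¹ by
      rw [hzi, show z * (z * (d : G) * z * (d : G)⁻¹) = (z * z) * d * z * (d : G)⁻¹ by group, hzz,
        one_mul]] at hx
    rw [mul_smul, mul_smul] at hx
    have := S.A_free z hzA ((d : G)⁻¹ • x) (by rw [eq_inv_smul_iff, hx])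
    rw [this, orderOf_one] at hz2
    omega
  have hcoset : ∀ d₀ ∈ T, ∀ e ∈ (ψ.range : Set ↥D), d₀ * e ∈ T := by
    rintro d₀ hd₀ _ ⟨d, rfl⟩
    obtain ⟨⟨h2, x, hx⟩, h1, h3⟩ := mem_fixSwaps.1 hd₀
    have e : z * ((d₀ * ψ d : ↥D) : G) = (d : G) * (z * d₀) * (d : G)⁻¹ := by
      rw [Subgroup.coe_mul, S.psi_apply]
      have hm : z⁻¹ * (d : G) * z ∈ pt2 G Ω S.a b := mem_pt2.2
        ⟨by rw [hzi, mul_smul, mul_smul, hza, (mem_pt2.1 d.2).2, hzb],
         by rw [hzi, mul_smul, mul_smul, hzb, (mem_pt2.1 d.2).1, hza]⟩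
      have hc := S.pt2_comm hb.symm d₀.2 hm
      calc z * (↑d₀ * (z * ↑d * z⁻¹ * (↑d)⁻¹))
          = z * (↑d₀ * (z⁻¹ * ↑d * z)) * (↑d)⁻¹ := by rw [hzi]; group
        _ = z * ((z⁻¹ * ↑d * z) * ↑d₀) * (↑d)⁻¹ := by rw [hc]
        _ = ↑d * (z * ↑d₀) * (↑d)⁻¹ := by group
    refine mem_fixSwaps.2 ⟨⟨?_, (d : G) • x, ?_⟩, ?_, ?_⟩
    · rw [e]; exact (MulEquiv.orderOf_eq (MulAut.conj (d : G)) _).trans h2
    · rw [e, mul_smul _ (d : G)⁻¹, inv_smul_smul, mul_smul, hx]
    · rw [e, mul_smul _ (d : G)⁻¹, inv_smul_eq_iff.2 (mem_pt2.1 d.2).1.symm, mul_smul, h1,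
        (mem_pt2.1 d.2).2]
    · rw [e, mul_smul _ (d : G)⁻¹, inv_smul_eq_iff.2 (mem_pt2.1 d.2).2.symm, mul_smul, h3,
        (mem_pt2.1 d.2).1]
  have hker : Nat.card φ.ker ≤ 2 * Nat.card ψ.range := by
    haveI := S.D_cyc hb.symm
    have hsq : Nat.card ψ.ker ≤ 2 * Nat.card φ.range := by
      let q : ↥ψ.ker →* ↥φ.range := φ.rangeRestrict.comp ψ.ker.subtype
      have hq : Nat.card q.ker ≤ 2 := by
        letI := Fintype.ofFinite ↥D
        refine le_trans ?_ (IsCyclic.card_pow_eq_one_le (α := ↥D) two_pos)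
        rw [Nat.card_eq_fintype_card, ← Finset.card_univ]
        refine Finset.card_le_card_of_injOn (fun x => ((x : ↥ψ.ker) : ↥D)) (fun x _ => ?_)
          fun x _ y _ h => Subtype.ext (Subtype.ext h)
        have hx := x.2
        rw [MonoidHom.mem_ker, ← Subtype.coe_inj] at hx
        have hx' : ψ (x : ↥ψ.ker).1 = 1 := (x : ↥ψ.ker).2
        have hx'' : ψ (x : ↥ψ.ker).1 * ((x : ↥ψ.ker).1 * (x : ↥ψ.ker).1) = 1 := hx
        rw [hx', one_mul] at hx''
        simp [sq, hx'']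
      calc Nat.card ψ.ker = Nat.card q.ker * Nat.card q.range := by
            rw [← Subgroup.index_ker q, Subgroup.card_mul_index]
        _ ≤ 2 * Nat.card φ.range := Nat.mul_le_mul hq (Subgroup.card_le_card_group _)
    have e1 : Nat.card φ.ker * Nat.card φ.range = Nat.card ψ.ker * Nat.card ψ.range := by
      rw [← Subgroup.index_ker φ, ← Subgroup.index_ker ψ, Subgroup.card_mul_index,
        Subgroup.card_mul_index]
    have h0 : 0 < Nat.card φ.range := Nat.card_pos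
    refine Nat.le_of_mul_le_mul_right ?_ h0
    calc Nat.card φ.ker * Nat.card φ.range = Nat.card ψ.ker * Nat.card ψ.range := e1
      _ ≤ 2 * Nat.card φ.range * Nat.card ψ.range := Nat.mul_le_mul_right _ hsq
      _ = 2 * Nat.card ψ.range * Nat.card φ.range := by ring
  have hTpos : T.Nonempty := by
    by_contra h
    rw [Set.not_nonempty_iff_eq_empty] at h
    rw [hj, h, Set.ncard_empty, zero_mul] at hcount
    omega
  obtain ⟨d₀, hd₀⟩ := hTpos
  have hge : Nat.card ψ.range ≤ T.ncard := by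
    rw [← SetLike.coe_sort_coe, Nat.card_coe_set_eq]
    exact Set.ncard_le_ncard_of_injOn (fun e => d₀ * e) (hcoset d₀ hd₀)
      (fun _ _ _ _ h => mul_left_cancel h)
  have hle : T.ncard ≤ Nat.card ψ.range := by
    have h1 : (T ∪ (ψ.range : Set ↥D)).ncard ≤ Nat.card φ.ker := by
      rw [← SetLike.coe_sort_coe φ.ker, Nat.card_coe_set_eq]
      exact Set.ncard_le_ncard (Set.union_subset hTφ hIφ)
    rw [Set.ncard_union_eq (Set.disjoint_right.2 hIfree)] at h1
    have h2 : (ψ.range : Set ↥D).ncard = Nat.card ↥ψ.range := (Nat.card_coe_set_eq _).symm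
    rw [h2] at h1
    exact Nat.le_of_add_le_add_right (by linarith)
  rw [hj, le_antisymm hle hge] at hcount
  omega

end Setting

end CfsgLib.Perm.CycStab
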